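import Groth.Agent.EtRamLib.GaloisTame

/-!
# Extensions generated by radicals of degree prime to the residue characteristic are tame
-/

set_option autoImplicit false
set_option linter.style.haveILetI false

universe u

noncomputable section

namespace Groth.Agent.H9Kummer.RadicalTame

theorem main (A K : Type u) [CommRing A] [IsDomain A] [IsDiscreteValuationRing A] [Field K] [Algebra A K]
    [IsFractionRing A K] {F : Type u} [Field F] [Algebra K F] [FiniteDimensional K F] [Algebra.IsSeparable K F]
    {ι : Type} [Fintype ι] (t : ι → F) (n : ι → ℕ) (hn1 : ∀ i, 1 ≤ n i)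
    (ht : ∀ i, ∃ c : K, t i ^ n i = algebraMap K F c) (hroot : ∀ i, ∃ ζ : K, IsPrimitiveRoot ζ (n i))
    (hdet : ∀ (L : Type u) [Field L] (σ τ : F →+* L), σ.comp (algebraMap K F) = τ.comp (algebraMap K F) →
      (∀ i, σ (t i) = τ (t i)) → σ = τ)
    (hn : ∀ i, IsUnit ((n i : ℕ) : IsLocalRing.ResidueField A)) :
    EtRam.IsTamelyRamified A ((algebraMap K F).comp (algebraMap A K)) := by
  classical
  let Ω := AlgebraicClosure F
  have hmul : ∀ (σ : F →ₐ[K] Ω) (i : ι), ∃ c : K, σ (t i) = algebraMap F Ω (algebraMap K F c * t i) ∧ c ^ n i = 1 := by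
    intro σ i
    haveI : NeZero (n i) := ⟨Nat.one_le_iff_ne_zero.1 (hn1 i)⟩
    obtain ⟨ζ, hζ⟩ := hroot i
    obtain ⟨a, ha⟩ := ht i
    by_cases h0 : t i = 0
    · exact ⟨1, by rw [h0, map_zero, mul_zero, map_zero], one_pow _⟩
    have h1 : algebraMap F Ω (t i) ≠ 0 := (map_ne_zero _).2 h0
    have h2 : (σ (t i) / algebraMap F Ω (t i)) ^ n i = 1 := by
      rw [div_pow, ← map_pow, ← map_pow, ha, σ.commutes, ← IsScalarTower.algebraMap_apply, div_self]
      rw [IsScalarTower.algebraMap_apply K F Ω, ← ha, map_pow]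
      exact pow_ne_zero _ h1
    obtain ⟨k, -, hk⟩ := (hζ.map_of_injective (algebraMap K Ω).injective).eq_pow_of_pow_eq_one h2
    refine ⟨ζ ^ k, ?_, by rw [← pow_mul, mul_comm, pow_mul, hζ.pow_eq_one, one_pow]⟩
    rw [map_mul, ← IsScalarTower.algebraMap_apply, map_pow, hk, div_mul_cancel₀ _ h1]
  have hsurj : Function.Surjective (fun s : F ≃ₐ[K] F => (IsScalarTower.toAlgHom K F Ω).comp s.toAlgHom) := fun σ => by
    have hr : ∀ z, σ z ∈ Set.range (algebraMap F Ω) := by
      have hE : (⊤ : IntermediateField K F) = IntermediateField.adjoin K (Set.range t) := by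
        let E := IntermediateField.adjoin K (Set.range t)
        haveI : Algebra.IsSeparable E F := Algebra.isSeparable_tower_top_of_isSeparable K E F
        have hcard : ∀ τ : F →ₐ[E] Ω, τ = IsScalarTower.toAlgHom E F Ω := fun τ => by
          refine AlgHom.coe_ringHom_injective (hdet Ω _ _ ?_ fun i => ?_)
          · ext c
            exact τ.commutes (algebraMap K E c)
          · exact τ.commutes (⟨t i, IntermediateField.subset_adjoin K _ ⟨i, rfl⟩⟩ : E)
        have : Module.finrank E F = 1 := by
          rw [← AlgHom.card E F Ω]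
          exact Fintype.card_eq_one_iff.2 ⟨_, hcard⟩
        exact (IntermediateField.finrank_eq_one_iff_eq_top.1 this).symm
      intro z
      have hz : z ∈ IntermediateField.adjoin K (Set.range t) := hE ▸ trivial
      have hle : IntermediateField.adjoin K (Set.range t) ≤ (IsScalarTower.toAlgHom K F Ω).fieldRange.comap σ := by
        rw [IntermediateField.adjoin_le_iff]
        rintro _ ⟨i, rfl⟩
        obtain ⟨c, hc, -⟩ := hmul σ i
        exact ⟨_, hc.symm⟩
      exact hle hz
    choose s hs using hr
    let s' : F →ₐ[K] F :=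
      { toFun := s
        map_one' := (algebraMap F Ω).injective (by rw [hs, map_one, map_one])
        map_mul' := fun a b => (algebraMap F Ω).injective (by rw [hs, map_mul, map_mul, hs, hs])
        map_zero' := (algebraMap F Ω).injective (by rw [hs, map_zero, map_zero])
        map_add' := fun a b => (algebraMap F Ω).injective (by rw [hs, map_add, map_add, hs, hs])
        commutes' := fun c => (algebraMap F Ω).injective (by
          rw [hs]
          exact (σ.commutes c).trans (IsScalarTower.algebraMap_apply K F Ω c)) }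
    exact ⟨AlgEquiv.ofBijective s' (Algebra.IsAlgebraic.algHom_bijective s'), AlgHom.ext fun w => hs w⟩
  have hinj : Function.Injective (fun s : F ≃ₐ[K] F => (IsScalarTower.toAlgHom K F Ω).comp s.toAlgHom) :=
    fun s s' h => AlgEquiv.ext fun w => (algebraMap F Ω).injective (AlgHom.congr_fun h w)
  haveI : IsGalois K F := IsGalois.of_card_aut_eq_finrank K F (by
    rw [Nat.card_congr (Equiv.ofBijective _ ⟨hinj, hsurj⟩), Nat.card_eq_fintype_card, AlgHom.card K F Ω])
  refine Groth.Agent.EtRamLib.tame_of_galois A K (M := F) fun h0 => ?_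
  obtain ⟨p, hp⟩ := CharP.exists (IsLocalRing.ResidueField A)
  rw [CharP.cast_eq_zero_iff (IsLocalRing.ResidueField A) p] at h0
  rcases CharP.char_is_prime_or_zero (IsLocalRing.ResidueField A) p with hpp | hpp
  swap
  · subst hpp
    exact absurd (zero_dvd_iff.1 h0) (Nat.card_pos (α := F ≃ₐ[K] F)).ne'
  haveI : Fact p.Prime := ⟨hpp⟩
  obtain ⟨s, hs⟩ := exists_prime_orderOf_dvd_card' p h0
  have hpN : p ∣ ∏ i, n i := by
    rw [← hs]
    refine orderOf_dvd_of_pow_eq_one ?_
    have hfix : ∀ i, (s ^ n i) (t i) = t i := fun i => by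
      obtain ⟨c, hc, hc1⟩ := hmul ((IsScalarTower.toAlgHom K F Ω).comp s.toAlgHom) i
      have hst : s (t i) = algebraMap K F c * t i := (algebraMap F Ω).injective hc
      have : ∀ m : ℕ, (s ^ m) (t i) = algebraMap K F (c ^ m) * t i := fun m => by
        induction m with
        | zero => simp
        | succ m ih =>
          rw [pow_succ', AlgEquiv.mul_apply, ih, map_mul, s.commutes, hst, ← mul_assoc, ← map_mul, ← pow_succ]
      rw [this, hc1, map_one, one_mul]
    refine AlgEquiv.ext fun z => RingHom.congr_fun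
      (hdet F (s ^ ∏ i, n i).toAlgHom.toRingHom (RingHom.id F) (RingHom.ext fun c => AlgEquiv.commutes _ c) fun i => ?_) z
    obtain ⟨d, hd⟩ := Finset.dvd_prod_of_mem n (Finset.mem_univ i)
    show (s ^ ∏ i, n i) (t i) = t i
    rw [hd, pow_mul]
    clear hd
    induction d with
    | zero => simp
    | succ d ih => rw [pow_succ, AlgEquiv.mul_apply, hfix, ih]
  obtain ⟨i, -, hi⟩ := (Prime.dvd_finsetProd_iff hpp.prime _).1 hpN
  exact (hn i).ne_zero ((CharP.cast_eq_zero_iff (IsLocalRing.ResidueField A) p _).2 hi)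

end Groth.Agent.H9Kummer.RadicalTame
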