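import Groth.Agent.H9Kummer.StrictConn
import Groth.Agent.Pi1X.FEtBasic
import Groth.Prelude.Def_PiSp
import Groth.Prelude.Def_Hens2
import Mathlib.FieldTheory.IsSepClosed

/-!
# The automorphism group of a connected Kummer cover
-/

set_option autoImplicit false
set_option linter.style.haveILetI false
set_option backward.isDefEq.respectTransparency false
set_option backward.isDefEq.respectTransparency.types false

universe u

open CategoryTheory CategoryTheory.Limits AlgebraicGeometry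

attribute [-instance] CategoryTheory.catToReflQuiver

noncomputable section

namespace Groth.Agent.H9Kummer.Galois

theorem prop_mk {X Y : Scheme.{u}} (f : X ⟶ Y) [h1 : IsFinite f] [h2 : Etale f] : FEt.prop f := ⟨h1, h2⟩

theorem exists_geomPoint {W : Scheme.{u}} (z : W) :
    ∃ (Ω : Type u) (_ : Field Ω) (_ : IsAlgClosed Ω), Nonempty (Spec (CommRingCat.of Ω) ⟶ W) :=
  ⟨AlgebraicClosure (W.residueField z), inferInstance, inferInstance,
    ⟨Spec.map (CommRingCat.ofHom (algebraMap (W.residueField z) (AlgebraicClosure (W.residueField z)))) ≫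
      W.fromSpecResidueField z⟩⟩

section Twist

variable {T : Type u} [CommRing T] {ι : Type} (a : ι → T) (n : ι → ℕ)

theorem twist_T (ζ : ∀ i, rootsOfUnity (n i) T) (i : ι) :
    SGA1t.kummerTwist T a n ζ (Alg.T a n i) = algebraMap T _ ((ζ i : Tˣ) : T) * Alg.T a n i := by
  show Ideal.Quotient.mk _ (MvPolynomial.aeval _ (MvPolynomial.X i)) = _
  rw [MvPolynomial.aeval_X, map_mul]
  rfl

theorem twist_algebraMap (ζ : ∀ i, rootsOfUnity (n i) T) (x : T) :
    SGA1t.kummerTwist T a n ζ (algebraMap T _ x) = algebraMap T _ x := by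
  show Ideal.Quotient.mk _ (MvPolynomial.aeval _ (MvPolynomial.C x)) = _
  rw [MvPolynomial.aeval_C]
  rfl

theorem hom_ext {B : Type u} [CommRing B] {g g' : SGA1t.kummer T a n →+* B}
    (h1 : ∀ x, g (algebraMap T _ x) = g' (algebraMap T _ x)) (h2 : ∀ i, g (Alg.T a n i) = g' (Alg.T a n i)) : g = g' :=
  Ideal.Quotient.ringHom_ext (MvPolynomial.ringHom_ext h1 h2)

theorem twist_one : SGA1t.kummerTwist T a n 1 = RingHom.id _ :=
  hom_ext a n (fun x => by rw [twist_algebraMap]; rfl) fun i => by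
    rw [twist_T]
    simp

theorem twist_mul (ζ η : ∀ i, rootsOfUnity (n i) T) :
    SGA1t.kummerTwist T a n (ζ * η) = (SGA1t.kummerTwist T a n η).comp (SGA1t.kummerTwist T a n ζ) :=
  hom_ext a n (fun x => by simp only [RingHom.comp_apply, twist_algebraMap]) fun i => by
    rw [twist_T, RingHom.comp_apply, twist_T, map_mul, twist_algebraMap, twist_T]
    simp only [Pi.mul_apply, Subgroup.coe_mul, Units.val_mul, map_mul]
    ring

end Twist

theorem exists_primitiveRoot {R : Type u} [CommRing R] [HenselianLocalRing R]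
    [IsSepClosed (IsLocalRing.ResidueField R)] (n : ℕ) (hn1 : 1 ≤ n) (hu : IsUnit (n : R)) :
    ∃ ζ : R, ζ ^ n = 1 ∧ ∀ m, 0 < m → m < n → IsUnit (ζ ^ m - 1) := by
  have hnk : (n : IsLocalRing.ResidueField R) ≠ 0 := by
    rw [← map_natCast (IsLocalRing.residue R)]
    exact (hu.map _).ne_zero
  haveI : NeZero (n : IsLocalRing.ResidueField R) := ⟨hnk⟩
  obtain ⟨z, hz⟩ := HasEnoughRootsOfUnity.exists_primitiveRoot (IsLocalRing.ResidueField R) n
  obtain ⟨z₀, rfl⟩ := IsLocalRing.residue_surjective z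
  obtain ⟨ζ, hζ, hζz⟩ := HenselianLocalRing.is_henselian (Polynomial.X ^ n - Polynomial.C (1 : R))
    (Polynomial.monic_X_pow_sub_C 1 (by omega)) z₀
    (by
      rw [Polynomial.eval_sub, Polynomial.eval_pow, Polynomial.eval_X, Polynomial.eval_C,
        ← IsLocalRing.residue_eq_zero_iff, map_sub, map_pow, hz.pow_eq_one, map_one, sub_self])
    (by
      rw [Polynomial.derivative_sub, Polynomial.derivative_C, sub_zero, Polynomial.derivative_X_pow, Polynomial.eval_mul,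
        Polynomial.eval_C, Polynomial.eval_pow, Polynomial.eval_X]
      refine hu.mul ?_
      rw [← IsLocalRing.residue_ne_zero_iff_isUnit, map_pow]
      exact pow_ne_zero _ (hz.ne_zero (by omega)))
  refine ⟨ζ, ?_, fun m hm hmn => ?_⟩
  · simpa [Polynomial.IsRoot, sub_eq_zero] using hζ
  · rw [← IsLocalRing.residue_ne_zero_iff_isUnit, map_sub, map_pow, map_one,
      show IsLocalRing.residue R ζ = IsLocalRing.residue R z₀ from Ideal.Quotient.eq.2 hζz, sub_ne_zero]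
    exact hz.pow_ne_one_of_pos_of_lt hm.ne' hmn

theorem sub_one_unit {R : Type u} [CommRing R] [IsLocalRing R] {n : ℕ} (hn1 : 1 ≤ n) (hu : IsUnit (n : R))
    {z : R} (hz : z ^ n = 1) (hne : z ≠ 1) : IsUnit (z - 1) := by
  by_contra hnu
  have h1 : IsLocalRing.residue R z = 1 := by
    rw [← sub_eq_zero, ← map_one (IsLocalRing.residue R), ← map_sub]
    exact (IsLocalRing.residue_eq_zero_iff _).2 ((IsLocalRing.mem_maximalIdeal _).2 hnu)
  have hsum : IsUnit (∑ i ∈ Finset.range n, z ^ i) := by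
    rw [← IsLocalRing.residue_ne_zero_iff_isUnit, map_sum]
    simp only [map_pow, h1, one_pow, Finset.sum_const, Finset.card_range, nsmul_eq_mul, mul_one]
    rw [← map_natCast (IsLocalRing.residue R)]
    exact (hu.map _).ne_zero
  have h2 := geom_sum_mul z n
  rw [hz, sub_self, hsum.mul_right_eq_zero, sub_eq_zero] at h2
  exact hne h2

variable {R K : Type u} [CommRing R] [CommRing K] [Algebra R K] {ι : Type} [Fintype ι] {a : ι → R} {n : ι → ℕ}

/-- The data of a Kummer algebra: generators `T i` with `T i ^ n i = a i` and the twists. -/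
structure Data (R K : Type u) [CommRing R] [CommRing K] [Algebra R K] {ι : Type} (a : ι → R) (n : ι → ℕ) where
  T : ι → K
  T_pow : ∀ i, T i ^ n i = algebraMap R K (a i)
  ext : ∀ (B : Type u) [CommRing B] (g g' : K →+* B), (∀ x, g (algebraMap R K x) = g' (algebraMap R K x)) →
    (∀ i, g (T i) = g' (T i)) → g = g'
  τ : (∀ i, rootsOfUnity (n i) R) → (K →+* K)
  τ_T : ∀ ζ i, τ ζ (T i) = algebraMap R K ((ζ i : Rˣ) : R) * T i
  τ_algebraMap : ∀ ζ x, τ ζ (algebraMap R K x) = algebraMap R K x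
  τ_one : τ 1 = RingHom.id K
  τ_mul : ∀ ζ η, τ (ζ * η) = (τ η).comp (τ ζ)

variable (D : Data R K a n)

/-- The projection. -/
abbrev pr (R K : Type u) [CommRing R] [CommRing K] [Algebra R K] : Spec (CommRingCat.of K) ⟶ Spec (CommRingCat.of R) :=
  Spec.map (CommRingCat.ofHom (algebraMap R K))

theorem mem_preimage_iff (x : Spec (CommRingCat.of (K))) (P : R) :
    x ∈ ((pr R K) ⁻¹ᵁ PrimeSpectrum.basicOpen P :
      (Spec (CommRingCat.of (K))).Opens) ↔ algebraMap R (K) P ∉ x.asIdeal :=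
  Iff.rfl

variable (U : (Spec (CommRingCat.of R)).Opens) (hU : U = PrimeSpectrum.basicOpen (∏ i, a i))

omit [Fintype ι] in
theorem twist_π (ζ : ∀ i, rootsOfUnity (n i) R) :
    Spec.map (CommRingCat.ofHom (D.τ ζ)) ≫ (pr R K) = (pr R K) := by
  rw [← Spec.map_comp]
  refine congrArg Spec.map ?_
  ext x
  exact D.τ_algebraMap ζ x

/-- The automorphism of the open cover given by a family of roots of unity. -/
def tw (ζ : ∀ i, rootsOfUnity (n i) R) : ((pr R K) ⁻¹ᵁ U : Scheme.{u}) ⟶ ((pr R K) ⁻¹ᵁ U : Scheme.{u}) :=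
  IsOpenImmersion.lift ((pr R K) ⁻¹ᵁ U).ι (((pr R K) ⁻¹ᵁ U).ι ≫ Spec.map (CommRingCat.ofHom (D.τ ζ))) (by
    rw [Scheme.Opens.range_ι]
    rintro _ ⟨x, rfl⟩
    show ((pr R K)).base ((Spec.map (CommRingCat.ofHom (D.τ ζ))).base _) ∈ U
    rw [← Scheme.Hom.comp_apply, twist_π]
    exact x.2)

omit [Fintype ι] in
theorem tw_ι (ζ : ∀ i, rootsOfUnity (n i) R) : tw D U ζ ≫ ((pr R K) ⁻¹ᵁ U).ι =
    ((pr R K) ⁻¹ᵁ U).ι ≫ Spec.map (CommRingCat.ofHom (D.τ ζ)) :=
  IsOpenImmersion.lift_fac _ _ _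

omit [Fintype ι] in
theorem tw_over (ζ : ∀ i, rootsOfUnity (n i) R) : tw D U ζ ≫ ((pr R K) ∣_ U) = (pr R K) ∣_ U := by
  rw [← cancel_mono U.ι, Category.assoc, morphismRestrict_ι, ← Category.assoc, tw_ι, Category.assoc, twist_π]

omit [Fintype ι] in
theorem tw_one : tw D U 1 = 𝟙 _ := by
  rw [← cancel_mono ((pr R K) ⁻¹ᵁ U).ι, tw_ι, D.τ_one, CommRingCat.ofHom_id, Spec.map_id, Category.comp_id, Category.id_comp]

omit [Fintype ι] in
theorem tw_mul (ζ η : ∀ i, rootsOfUnity (n i) R) : tw D U (ζ * η) = tw D U η ≫ tw D U ζ := by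
  rw [← cancel_mono ((pr R K) ⁻¹ᵁ U).ι, Category.assoc, tw_ι, tw_ι, ← Category.assoc, tw_ι, Category.assoc, ← Spec.map_comp,
    D.τ_mul]
  rfl

variable [hF : IsFinite ((pr R K) ∣_ U)] [hE : Etale ((pr R K) ∣_ U)]

/-- The twist as an automorphism of the finite étale cover. -/
def θ : (∀ i, rootsOfUnity (n i) R) →*
    Aut (MorphismProperty.Over.mk ⊤ ((pr R K) ∣_ U) (prop_mk _) : FEt.Cat (U : Scheme.{u})) where
  toFun ζ :=
    { hom := MorphismProperty.Over.homMk (tw D U ζ) (tw_over D U ζ) trivial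
      inv := MorphismProperty.Over.homMk (tw D U ζ⁻¹) (tw_over D U ζ⁻¹) trivial
      hom_inv_id := MorphismProperty.Over.Hom.ext (by
        show tw D U ζ ≫ tw D U ζ⁻¹ = 𝟙 _
        rw [← tw_mul, inv_mul_cancel, tw_one])
      inv_hom_id := MorphismProperty.Over.Hom.ext (by
        show tw D U ζ⁻¹ ≫ tw D U ζ = 𝟙 _
        rw [← tw_mul, mul_inv_cancel, tw_one]) }
  map_one' := Iso.ext (MorphismProperty.Over.Hom.ext (tw_one D U))
  map_mul' ζ η := Iso.ext (MorphismProperty.Over.Hom.ext (tw_mul D U ζ η))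

include hU in
theorem exists_tw (hroot : ∀ i, ∃ ζ : R, ζ ^ n i = 1 ∧ ∀ m, 0 < m → m < n i → IsUnit (ζ ^ m - 1))
    (hn1 : ∀ i, 1 ≤ n i) (Ω : Type u) [Field Ω] (s t : Spec (CommRingCat.of Ω) ⟶ ((pr R K) ⁻¹ᵁ U : Scheme.{u}))
    (hst : s ≫ ((pr R K) ∣_ U) = t ≫ ((pr R K) ∣_ U)) : ∃ ζ, s ≫ tw D U ζ = t := by
  classical
  let hs := (Spec.preimage (s ≫ ((pr R K) ⁻¹ᵁ U).ι)).hom
  let ht := (Spec.preimage (t ≫ ((pr R K) ⁻¹ᵁ U).ι)).hom
  have hR : ∀ x : R, hs (algebraMap R _ x) = ht (algebraMap R _ x) := by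
    intro x
    have h1 : (s ≫ ((pr R K) ⁻¹ᵁ U).ι) ≫ (pr R K) = (t ≫ ((pr R K) ⁻¹ᵁ U).ι) ≫ (pr R K) := by
      rw [Category.assoc, Category.assoc, ← morphismRestrict_ι, reassoc_of% hst]
    rw [← Spec.map_preimage (s ≫ ((pr R K) ⁻¹ᵁ U).ι), ← Spec.map_preimage (t ≫ ((pr R K) ⁻¹ᵁ U).ι), ← Spec.map_comp, ← Spec.map_comp] at h1
    exact RingHom.congr_fun (congrArg CommRingCat.Hom.hom (Spec.map_injective h1)) x
  have hne : ∀ i, hs (D.T i) ≠ 0 := fun i h0 => by
    let z : Spec (CommRingCat.of Ω) := IsLocalRing.closedPoint Ω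
    have hmem : (Spec.map (Spec.preimage (s ≫ ((pr R K) ⁻¹ᵁ U).ι))).base z ∈ (pr R K) ⁻¹ᵁ U := by
      rw [Spec.map_preimage]
      exact (s.base z).2
    subst hU
    rw [mem_preimage_iff] at hmem
    refine hmem ?_
    show hs (algebraMap R _ (∏ j, a j)) ∈ z.asIdeal
    rw [map_prod, map_prod]
    refine Ideal.IsPrime.mem_of_pow_mem inferInstance 1 ?_
    rw [pow_one, Finset.prod_eq_zero (Finset.mem_univ i) (by
      rw [← D.T_pow i, map_pow, h0, zero_pow (Nat.one_le_iff_ne_zero.1 (hn1 i))])]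
    exact zero_mem _
  choose ζ₀ hζ₀ hζu using hroot
  have hk : ∀ i, ∃ k : ℕ, hs (algebraMap R _ (ζ₀ i)) ^ k * hs (D.T i) = ht (D.T i) := by
    intro i
    haveI : NeZero (n i) := ⟨Nat.one_le_iff_ne_zero.1 (hn1 i)⟩
    have hp : IsPrimitiveRoot (hs (algebraMap R _ (ζ₀ i))) (n i) := by
      refine IsPrimitiveRoot.mk_of_lt _ (hn1 i) (by rw [← map_pow, ← map_pow, hζ₀, map_one, map_one]) fun m hm hmn he => ?_
      refine (((hζu i m hm hmn).map (algebraMap R (K))).map hs).ne_zero ?_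
      rw [map_sub, map_sub, map_pow, map_pow, he, map_one, map_one, sub_self]
    have h1 : (ht (D.T i) / hs (D.T i)) ^ n i = 1 := by
      rw [div_pow, ← map_pow ht (D.T i) (n i), ← map_pow hs (D.T i) (n i), D.T_pow, ← hR, div_self]
      rw [← D.T_pow i, map_pow]
      exact pow_ne_zero _ (hne i)
    obtain ⟨k, -, hk⟩ := hp.eq_pow_of_pow_eq_one h1
    exact ⟨k, by rw [hk, div_mul_cancel₀ _ (hne i)]⟩
  choose k hk using hk
  let ζ : ∀ i, rootsOfUnity (n i) R := fun i =>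
    haveI : NeZero (n i) := ⟨Nat.one_le_iff_ne_zero.1 (hn1 i)⟩
    rootsOfUnity.mkOfPowEq (ζ₀ i) (hζ₀ i) ^ k i
  refine ⟨ζ, ?_⟩
  rw [← cancel_mono ((pr R K) ⁻¹ᵁ U).ι, Category.assoc, tw_ι, ← Category.assoc,
    ← Spec.map_preimage (s ≫ ((pr R K) ⁻¹ᵁ U).ι), ← Spec.map_preimage (t ≫ ((pr R K) ⁻¹ᵁ U).ι), ← Spec.map_comp]
  refine congrArg Spec.map (CommRingCat.hom_ext (D.ext _ _ _ (fun x => ?_) fun i => ?_))
  · show hs (D.τ ζ (algebraMap R _ x)) = ht (algebraMap R _ x)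
    rw [D.τ_algebraMap, hR]
  · show hs (D.τ ζ (D.T i)) = ht (D.T i)
    rw [D.τ_T, map_mul, ← hk i]
    simp [ζ]

include hU in
theorem galois [IsLocalRing R] (hn1 : ∀ i, 1 ≤ n i) (hu : ∀ i, IsUnit ((n i : ℕ) : R))
    (hroot : ∀ i, ∃ ζ : R, ζ ^ n i = 1 ∧ ∀ m, 0 < m → m < n i → IsUnit (ζ ^ m - 1))
    (hconn : Nontrivial (Localization.Away (algebraMap R (K) (∏ i, a i))) ∧
      ∀ x : Localization.Away (algebraMap R (K) (∏ i, a i)), IsIdempotentElem x → x = 0 ∨ x = 1) :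
    PiSp.IsGaloisCover (MorphismProperty.Over.mk ⊤ ((pr R K) ∣_ U) (prop_mk _)) ∧
      ∃ θ' : (∀ i, rootsOfUnity (n i) R) ≃*
          Aut (MorphismProperty.Over.mk ⊤ ((pr R K) ∣_ U) (prop_mk _) : FEt.Cat (U : Scheme.{u})),
        ∀ ζ, (θ' ζ).hom.left ≫ ((pr R K) ⁻¹ᵁ U).ι = ((pr R K) ⁻¹ᵁ U).ι ≫ Spec.map (CommRingCat.ofHom (D.τ ζ)) := by
  classical
  haveI hcon : ConnectedSpace ↥((pr R K) ⁻¹ᵁ U) := by
    subst hU
    exact LocalCover.preimage_connected _ _ hconn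
  refine ⟨⟨hcon, fun Ω _ _ ξ s t => ?_⟩, ?_⟩
  · obtain ⟨ζ, hζ⟩ := exists_tw D U hU hroot hn1 Ω s.1 t.1 (s.2.trans t.2.symm)
    exact ⟨θ D U ζ, Subtype.ext hζ⟩
  refine ⟨MulEquiv.ofBijective (θ D U) ⟨?_, ?_⟩, fun ζ => tw_ι D U ζ⟩
  · rw [injective_iff_map_eq_one]
    intro ζ hζ
    have h1 : tw D U ζ = 𝟙 _ := congrArg (fun e : Aut (MorphismProperty.Over.mk ⊤ ((pr R K) ∣_ U) (prop_mk _) : FEt.Cat (U : Scheme.{u})) => e.hom.left) hζ
    have h2 : ((pr R K) ⁻¹ᵁ U).ι ≫ Spec.map (CommRingCat.ofHom (D.τ ζ)) = ((pr R K) ⁻¹ᵁ U).ι := by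
      rw [← tw_ι, h1, Category.id_comp]
    let c := algebraMap R (K) (∏ i, a i)
    let l : CommRingCat.of (K) ⟶ CommRingCat.of (Localization.Away c) :=
      CommRingCat.ofHom (algebraMap _ _)
    have hr : Set.range (Spec.map l).base ⊆ Set.range ((pr R K) ⁻¹ᵁ U).ι.base := by
      rw [Scheme.Opens.range_ι]
      rintro _ ⟨y, rfl⟩
      subst hU
      rw [SetLike.mem_coe, mem_preimage_iff]
      intro hy
      exact y.isPrime.ne_top (Ideal.eq_top_of_isUnit_mem _ hy (IsLocalization.Away.algebraMap_isUnit c))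
    have h3 : Spec.map l ≫ Spec.map (CommRingCat.ofHom (D.τ ζ)) = Spec.map l := by
      rw [← IsOpenImmersion.lift_fac ((pr R K) ⁻¹ᵁ U).ι (Spec.map l) hr, Category.assoc, h2]
    rw [← Spec.map_comp] at h3
    funext i
    refine Subtype.ext (Units.ext ?_)
    by_contra hne
    haveI := hconn.1
    have h4 := congr($(congrArg CommRingCat.Hom.hom (Spec.map_injective h3)) (D.T i))
    replace h4 : algebraMap _ (Localization.Away c) (D.τ ζ (D.T i)) =
        algebraMap _ (Localization.Away c) (D.T i) := h4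
    have hz : ((ζ i : Rˣ) : R) ^ n i = 1 := by
      have := congrArg Units.val ((mem_rootsOfUnity (n i) (ζ i : Rˣ)).1 (ζ i).2)
      simpa using this
    have hT : IsUnit (algebraMap _ (Localization.Away c) (D.T i)) := by
      refine (isUnit_pow_iff (Nat.one_le_iff_ne_zero.1 (hn1 i))).1 ?_
      rw [← map_pow, D.T_pow]
      have h5 := IsLocalization.Away.algebraMap_isUnit (S := Localization.Away c) c
      have h6 : algebraMap K (Localization.Away c) c = ∏ j, algebraMap K (Localization.Away c) (algebraMap R K (a j)) := by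
        rw [← map_prod, ← map_prod]
      rw [h6, IsUnit.prod_iff] at h5
      exact h5 i (Finset.mem_univ i)
    rw [D.τ_T, map_mul, ← sub_eq_zero] at h4
    refine (((sub_one_unit (hn1 i) (hu i) hz (by simpa using hne)).map (algebraMap R (K))).map
      (algebraMap _ (Localization.Away c)) |>.mul hT).ne_zero ?_
    rw [map_sub, map_sub, map_one, map_one, sub_mul, one_mul]
    exact h4
  · intro g
    obtain ⟨z⟩ := hcon.toNonempty
    obtain ⟨Ω, _, _, ⟨s⟩⟩ := exists_geomPoint (W := ((pr R K) ⁻¹ᵁ U : Scheme.{u})) z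
    obtain ⟨ζ, hζ⟩ := exists_tw D U hU hroot hn1 Ω s (s ≫ g.hom.left)
      (by rw [Category.assoc]; exact congrArg (s ≫ ·) (MorphismProperty.Over.w g.hom).symm)
    refine ⟨ζ, Iso.ext (MorphismProperty.Over.Hom.ext ?_)⟩
    haveI : PreconnectedSpace ↥((MorphismProperty.Over.mk ⊤ ((pr R K) ∣_ U) (prop_mk _) : FEt.Cat (U : Scheme.{u})).left) :=
      hcon.toPreconnectedSpace
    exact Pi1X.hom_ext_of_connected ((pr R K) ∣_ U) _ _
      ((tw_over D U ζ).trans (MorphismProperty.Over.w g.hom).symm) s hζ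

/-- The Kummer algebra with its twists. -/
def kummerData {R : Type u} [CommRing R] {ι : Type} (a : ι → R) (n : ι → ℕ) : Data R (SGA1t.kummer R a n) a n where
  T := Alg.T a n
  T_pow := Alg.T_pow a n
  ext _ _ _ _ := hom_ext a n
  τ := SGA1t.kummerTwist R a n
  τ_T := twist_T a n
  τ_algebraMap := twist_algebraMap a n
  τ_one := twist_one a n
  τ_mul := twist_mul a n

theorem compl_eq {X : Scheme.{u}} {r : ℕ} (φ : Fin r → Γ(X, ⊤)) (x : X) (R : Type u) [CommRing R]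
    [Algebra (X.presheaf.stalk x) R] :
    SGA1t.compl (fun i => (Hens2.specOf X x R).appTop (φ i)) =
      PrimeSpectrum.basicOpen (∏ i : SGA1t.vanishingAt φ x,
        algebraMap (X.presheaf.stalk x) R ((X.presheaf.germ ⊤ x trivial).hom (φ i.1))) := by
  have h : SGA1t.compl (fun i => (Hens2.specOf X x R).appTop (φ i)) =
      Spec.map (CommRingCat.ofHom (algebraMap (X.presheaf.stalk x) R)) ⁻¹ᵁ
        SGA1t.compl (fun i => (X.fromSpecStalk x).appTop (φ i)) := by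
    show Scheme.basicOpen _ (∏ i, _) = Spec.map _ ⁻¹ᵁ Scheme.basicOpen _ (∏ i, _)
    rw [Scheme.preimage_basicOpen_top, map_prod]
    rfl
  rw [h, LocalCover.compl_eq, ← map_prod (algebraMap (X.presheaf.stalk x) R)]
  rfl

theorem main {X S : Scheme.{u}} (f : X ⟶ S) {r : ℕ} (φ : Fin r → Γ(X, ⊤))
    (hD : SGA1t.IsRelSNC f φ) (x : X) (hx : Nonempty (SGA1t.vanishingAt φ x))
    (R : Type u) [CommRing R] [IsLocalRing R] [Algebra (X.presheaf.stalk x) R]
    [IsLocalHom (algebraMap (X.presheaf.stalk x) R)] [Hensel.IsStrictHenselization (X.presheaf.stalk x) R]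
    (n : SGA1t.vanishingAt φ x → ℕ) (hn1 : ∀ i, 1 ≤ n i) (hnu : ∀ i, IsUnit ((n i : ℕ) : X.residueField x)) :
    let a : SGA1t.vanishingAt φ x → R := fun i =>
      algebraMap (X.presheaf.stalk x) R ((X.presheaf.germ ⊤ x trivial).hom (φ i.1))
    let U₁ := SGA1t.compl (fun i => (Hens2.specOf X x R).appTop (φ i))
    ∀ [hF : IsFinite (pr R (SGA1t.kummer R a n) ∣_ U₁)] [hE : Etale (pr R (SGA1t.kummer R a n) ∣_ U₁)],
      PiSp.IsGaloisCover (MorphismProperty.Over.mk ⊤ (pr R (SGA1t.kummer R a n) ∣_ U₁) (prop_mk _)) ∧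
      ∃ θ' : ((i : SGA1t.vanishingAt φ x) → ↥(rootsOfUnity (n i) R)) ≃*
          Aut (MorphismProperty.Over.mk ⊤ (pr R (SGA1t.kummer R a n) ∣_ U₁) (prop_mk _) : FEt.Cat (U₁ : Scheme.{u})),
        ∀ ζ, (θ' ζ).hom.left ≫ (pr R (SGA1t.kummer R a n) ⁻¹ᵁ U₁).ι =
          (pr R (SGA1t.kummer R a n) ⁻¹ᵁ U₁).ι ≫ Spec.map (CommRingCat.ofHom (SGA1t.kummerTwist R a n ζ)) := by
  intro a U₁ hF hE
  haveI : HenselianLocalRing R := Hensel.IsStrictHenselization.henselian (X.presheaf.stalk x)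
  haveI : IsSepClosed (IsLocalRing.ResidueField R) :=
    (Hensel.IsStrictHenselization.isSepClosure (R := X.presheaf.stalk x) (S := R)).sep_closed
  have hu : ∀ i, IsUnit ((n i : ℕ) : R) := fun i => by
    have : IsUnit ((n i : ℕ) : X.presheaf.stalk x) := by
      rw [← IsLocalRing.residue_ne_zero_iff_isUnit, map_natCast]
      exact (hnu i).ne_zero
    simpa using this.map (algebraMap (X.presheaf.stalk x) R)
  exact galois (kummerData a n) U₁ (compl_eq φ x R) hn1 hu (fun i => exists_primitiveRoot (n i) (hn1 i) (hu i))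
    (StrictConn.connected_stalk f φ hD x hx n hn1 R)

end Groth.Agent.H9Kummer.Galois
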