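import Groth.Agent.H9Kummer.Conn
import Mathlib.AlgebraicGeometry.Morphisms.Finite
import Mathlib.AlgebraicGeometry.Morphisms.Etale

/-!
# The local Kummer cover attached to a relative normal crossings divisor
-/

set_option autoImplicit false
set_option linter.style.haveILetI false
set_option backward.isDefEq.respectTransparency false
set_option backward.isDefEq.respectTransparency.types false

universe u

open CategoryTheory AlgebraicGeometry

noncomputable section

namespace Groth.Agent.H9Kummer.LocalCover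

instance instFiniteVanishingAt {X : Scheme.{u}} {r : ℕ} (φ : Fin r → Γ(X, ⊤)) (x : X) :
    Finite (SGA1t.vanishingAt φ x) := inferInstanceAs (Finite {i : Fin r // x ∉ X.basicOpen (φ i)})

instance instFintypeVanishingAt {X : Scheme.{u}} {r : ℕ} (φ : Fin r → Γ(X, ⊤)) (x : X) :
    Fintype (SGA1t.vanishingAt φ x) := Fintype.ofFinite _

theorem connected_iff_idempotent {L : Type u} [CommRing L] (h : Nontrivial L ∧ ∀ x : L, IsIdempotentElem x → x = 0 ∨ x = 1) :
    ConnectedSpace (PrimeSpectrum L) := by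
  haveI := h.1
  refine connectedSpace_iff_clopen.2 ⟨inferInstance, fun s hs => ?_⟩
  obtain ⟨e, g, he1, he2, rfl⟩ := PrimeSpectrum.isClopen_iff_mul_add.1 hs
  rcases h.2 e (IsIdempotentElem.of_mul_add he1 he2).1 with rfl | rfl
  · left; simp
  · right; simp

theorem compl_eq {X : Scheme.{u}} {r : ℕ} (φ : Fin r → Γ(X, ⊤)) (x : X) :
    SGA1t.compl (fun i => (X.fromSpecStalk x).appTop (φ i)) =
      PrimeSpectrum.basicOpen (∏ i : SGA1t.vanishingAt φ x, (X.presheaf.germ ⊤ x trivial).hom (φ i.1)) := by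
  classical
  let A := X.presheaf.stalk x
  have h1 : ∀ i, (X.fromSpecStalk x).appTop (φ i) = (Scheme.ΓSpecIso A).inv (X.presheaf.germ ⊤ x trivial (φ i)) := fun i => by
    rw [Scheme.fromSpecStalk_appTop, CommRingCat.comp_apply, CommRingCat.comp_apply]
    rfl
  show (Spec A).basicOpen (∏ i, _) = _
  simp only [h1]
  rw [← map_prod, basicOpen_eq_of_affine]
  let g : Fin r → A := fun i => X.presheaf.germ ⊤ x trivial (φ i)
  show PrimeSpectrum.basicOpen (∏ i, g i) = PrimeSpectrum.basicOpen (∏ i : SGA1t.vanishingAt φ x, g i.1)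
  have hu : IsUnit (∏ i ∈ Finset.univ.filter (fun i => x ∈ X.basicOpen (φ i)), g i) :=
    IsUnit.prod_iff.2 fun i hi => ((X.mem_basicOpen'' (φ i) x).1 (Finset.mem_filter.1 hi).2).choose_spec
  rw [← Finset.prod_filter_mul_prod_filter_not Finset.univ (fun i => x ∈ X.basicOpen (φ i)) g,
    PrimeSpectrum.basicOpen_mul]
  obtain ⟨v, hv⟩ := hu
  have htop : PrimeSpectrum.basicOpen (v : A) = ⊤ := top_unique fun P _ hP =>
    P.isPrime.ne_top (Ideal.eq_top_of_isUnit_mem _ hP v.isUnit)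
  rw [← hv, htop, top_inf_eq]
  refine congrArg PrimeSpectrum.basicOpen ?_
  exact Finset.prod_subtype (p := fun i => x ∉ X.basicOpen (φ i)) _ (fun i => by simp) g

theorem restrict_etale {R S : CommRingCat.{u}} (f : R ⟶ S) (c : R)
    (h : RingHom.Etale (R := Localization.Away c) (S := Localization.Away (f.hom c)) (Localization.awayMap f.hom c)) :
    Etale (Spec.map f ∣_ PrimeSpectrum.basicOpen c) :=
  (MorphismProperty.arrow_mk_iso_iff @Etale (SpecMapRestrictBasicOpenIso f c)).2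
    ((HasRingHomProperty.Spec_iff (P := @Etale)).2 h)

theorem preimage_connected {R S : CommRingCat.{u}} (f : R ⟶ S) (c : R)
    (h : Nontrivial (Localization.Away (f.hom c)) ∧
      ∀ x : Localization.Away (f.hom c), IsIdempotentElem x → x = 0 ∨ x = 1) :
    ConnectedSpace ↥(Spec.map f ⁻¹ᵁ PrimeSpectrum.basicOpen c) := by
  haveI := connected_iff_idempotent h
  exact (Scheme.Hom.homeomorph (Arrow.leftFunc.mapIso (SpecMapRestrictBasicOpenIso f c)).hom).connectedSpace_iff.2 (by exact ‹_›)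

theorem connected_stalk {X S : Scheme.{u}} (f : X ⟶ S) {r : ℕ} (φ : Fin r → Γ(X, ⊤))
    (hD : SGA1t.IsRelSNC f φ) (x : X) (hx : Nonempty (SGA1t.vanishingAt φ x))
    (n : SGA1t.vanishingAt φ x → ℕ) (hn1 : ∀ i, 1 ≤ n i)
    (L : Type u) [CommRing L]
    [Algebra (SGA1t.kummer (X.presheaf.stalk x) (fun i : SGA1t.vanishingAt φ x => (X.presheaf.germ ⊤ x trivial).hom (φ i.1)) n) L]
    [IsLocalization.Away (algebraMap (X.presheaf.stalk x) (SGA1t.kummer (X.presheaf.stalk x)
      (fun i : SGA1t.vanishingAt φ x => (X.presheaf.germ ⊤ x trivial).hom (φ i.1)) n)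
        (∏ i : SGA1t.vanishingAt φ x, (X.presheaf.germ ⊤ x trivial).hom (φ i.1))) L] :
    Nontrivial L ∧ ∀ z : L, IsIdempotentElem z → z = 0 ∨ z = 1 := by
  obtain ⟨W, hxW, d, v, e, he, hv, hev⟩ := hD x hx
  obtain ⟨S0, hS, hxS, -⟩ := exists_isAffineOpen_mem_and_subset (x := f x) (U := ⊤) trivial
  obtain ⟨W0, hW0, hxW0, hle⟩ := exists_isAffineOpen_mem_and_subset (x := x) (U := W ⊓ f ⁻¹ᵁ S0) ⟨hxW, hxS⟩
  have hWW : W0 ≤ W := hle.trans inf_le_left
  have hWS : W0 ≤ f ⁻¹ᵁ S0 := hle.trans inf_le_right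
  let R := Γ(S, S0)
  let B := Γ(X, W0)
  let σ := ULift.{u} (Fin d)
  have hjr : Set.range hW0.fromSpec.base ⊆ Set.range W.ι.base := by
    rw [Scheme.Opens.range_ι, hW0.range_fromSpec]; exact hWW
  let j : Spec B ⟶ W := IsOpenImmersion.lift W.ι hW0.fromSpec hjr
  have hj : j ≫ W.ι = hW0.fromSpec := IsOpenImmersion.lift_fac _ _ _
  haveI : IsOpenImmersion (j ≫ W.ι) := by rw [hj]; infer_instance
  haveI : IsOpenImmersion j := IsOpenImmersion.of_comp j W.ι
  let w : σ → B := fun s => (Scheme.ΓSpecIso B).hom (j.appTop (v s))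
  let θ : CommRingCat.of (MvPolynomial σ R) ⟶ B :=
    CommRingCat.ofHom (MvPolynomial.eval₂Hom (f.appLE S0 W0 hWS).hom w)
  have hθet : θ.hom.Etale := Smooth.chart_etale f hS hW0 hWS W v j hj hv
  let germ : B →+* X.presheaf.stalk x := (X.presheaf.germ W0 x hxW0).hom
  letI : Algebra (MvPolynomial σ R) B := θ.hom.toAlgebra
  letI : Algebra B (X.presheaf.stalk x) := germ.toAlgebra
  letI : Algebra R B := (f.appLE S0 W0 hWS).hom.toAlgebra
  haveI : IsScalarTower R (MvPolynomial σ R) B := .of_algebraMap_eq fun r =>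
    (MvPolynomial.eval₂Hom_C (f.appLE S0 W0 hWS).hom w r).symm
  haveI : Algebra.Etale (MvPolynomial σ R) B := hθet
  haveI : IsLocalization.AtPrime (X.presheaf.stalk x) (hW0.primeIdealOf ⟨x, hxW0⟩).asIdeal :=
    hW0.isLocalization_stalk ⟨x, hxW0⟩
  let a₀ : SGA1t.vanishingAt φ x → B := fun i => X.presheaf.map (homOfLE (le_top : W0 ≤ ⊤)).op (φ i.1)
  have ha₀ : ∀ i, a₀ i = algebraMap (MvPolynomial σ R) B (MvPolynomial.X (ULift.up (e i))) := fun i => by
    have h1 : w (ULift.up (e i)) = a₀ i := by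
      show (Scheme.ΓSpecIso B).hom (j.appTop (v (ULift.up (e i)))) = _
      rw [hev]
      exact Smooth.res_eq hW0 W j hj (φ i.1)
    rw [← h1]
    exact (MvPolynomial.eval₂Hom_X' (f.appLE S0 W0 hWS).hom w _).symm
  have hga : ∀ i, (X.presheaf.germ ⊤ x trivial).hom (φ i.1) = algebraMap B (X.presheaf.stalk x) (a₀ i) := fun i =>
    (X.presheaf.germ_res_apply (homOfLE le_top) x hxW0 (φ i.1)).symm
  refine Conn.connected_away _ n (R := R) (σ := σ) (hW0.primeIdealOf ⟨x, hxW0⟩).asIdeal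
    (fun i => ULift.up (e i)) (ULift.up_injective.comp he) a₀ ha₀ (fun i => ?_) hga hn1 L
  rw [← IsLocalization.AtPrime.to_map_mem_maximal_iff (X.presheaf.stalk x) (hW0.primeIdealOf ⟨x, hxW0⟩).asIdeal (a₀ i), ← hga]
  exact (IsLocalRing.mem_maximalIdeal _).2 fun hu => i.2 ((X.mem_basicOpen'' (φ i.1) x).2 ⟨trivial, hu⟩)

end Groth.Agent.H9Kummer.LocalCover
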