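import Mathlib
import Groth.Prelude.Def_SGA1
import Groth.Agent.EGA41Lib.IntDim
import Groth.Agent.RegLoc6.Basic

/-! Kummer algebras over regular local rings -/

universe u
set_option linter.style.haveILetI false
open IsLocalRing

namespace Groth.Agent.H9Kummer

variable {A : Type u} [CommRing A] {r : ℕ} (f : Fin r → A) (n : Fin r → ℕ)

noncomputable abbrev T (i : Fin r) : SGA1.kummerAlg A f n := Ideal.Quotient.mk _ (MvPolynomial.X i)

lemma T_pow (i : Fin r) : T f n i ^ n i = algebraMap A _ (f i) := by
  rw [T, ← map_pow]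
  exact Ideal.Quotient.eq.2 (Ideal.subset_span ⟨i, rfl⟩)

lemma adjoin_T : Algebra.adjoin A (Set.range (T f n)) = ⊤ := by
  rw [show Set.range (T f n) = (Ideal.Quotient.mkₐ A _) '' Set.range MvPolynomial.X from (Set.range_comp _ _),
    ← AlgHom.map_adjoin, MvPolynomial.adjoin_range_X, Algebra.map_top, AlgHom.range_eq_top]
  exact Ideal.Quotient.mkₐ_surjective A _

lemma isIntegral (hn : ∀ i, 1 ≤ n i) : Algebra.IsIntegral A (SGA1.kummerAlg A f n) := by
  refine ⟨fun x => ?_⟩
  have hx : x ∈ Algebra.adjoin A (Set.range (T f n)) := adjoin_T f n ▸ Algebra.mem_top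
  have : Algebra.adjoin A (Set.range (T f n)) ≤ integralClosure A _ := Algebra.adjoin_le (by
    rintro _ ⟨i, rfl⟩
    refine IsIntegral.of_pow (hn i) ?_
    rw [T_pow]
    exact isIntegral_algebraMap)
  exact this hx

lemma finite (hn : ∀ i, 1 ≤ n i) : Module.Finite A (SGA1.kummerAlg A f n) := by
  haveI := isIntegral f n hn
  haveI : Algebra.FiniteType A (SGA1.kummerAlg A f n) := inferInstance
  exact Algebra.IsIntegral.finite

lemma injective [IsDomain A] (hn : ∀ i, 1 ≤ n i) : Function.Injective (algebraMap A (SGA1.kummerAlg A f n)) := by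
  let K := AlgebraicClosure (FractionRing A)
  let ρ : A →+* K := (algebraMap (FractionRing A) K).comp (algebraMap A _)
  have hρ : Function.Injective ρ := (algebraMap (FractionRing A) K).injective.comp (IsFractionRing.injective A (FractionRing A))
  choose z hz using fun i => IsAlgClosed.exists_pow_nat_eq (k := K) (ρ (f i)) (hn i)
  let φ : SGA1.kummerAlg A f n →+* K := Ideal.Quotient.lift _ (MvPolynomial.eval₂Hom ρ z) (by
    intro a ha
    induction ha using Submodule.span_induction with
    | mem x hx => obtain ⟨i, rfl⟩ := hx; simp [hz]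
    | zero => simp
    | add x y _ _ hx hy => rw [map_add, hx, hy, add_zero]
    | smul a x _ hx => rw [smul_eq_mul, map_mul, hx, mul_zero])
  have key : ∀ c, φ (algebraMap A _ c) = ρ c := fun c =>
    (Ideal.Quotient.lift_mk _ _ _).trans (MvPolynomial.eval₂_C ρ z c)
  intro a b h
  apply hρ
  rw [← key, ← key, h]

theorem exists_gens [IsRegularLocalRing A] (hm : ∀ i, f i ∈ maximalIdeal A)
    (hf : LinearIndependent (ResidueField A) (fun i => (maximalIdeal A).toCotangent ⟨f i, hm i⟩))
    (hn : ∀ i, 1 ≤ n i) : ∃ S : Set (SGA1.kummerAlg A f n), S.Finite ∧ Set.range (T f n) ⊆ S ∧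
      (S.ncard : WithBot ℕ∞) ≤ ringKrullDim (SGA1.kummerAlg A f n) ∧
      ∃ _ : IsLocalRing (SGA1.kummerAlg A f n), maximalIdeal (SGA1.kummerAlg A f n) = Ideal.span S := by
  classical
  haveI : IsDomain A := RegLoc6.isDomain_of_isRegularLocalRing A
  haveI := isIntegral f n hn
  haveI := finite f n hn
  haveI : IsNoetherianRing (SGA1.kummerAlg A f n) := IsNoetherianRing.of_finite A _
  set B := SGA1.kummerAlg A f n
  have hinj := injective f n hn
  have hdim := EGA41Lib.ringKrullDim_eq_of_integral (A := A) (B := B) hinj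
  -- generators of the maximal ideal
  let v := fun i => (maximalIdeal A).toCotangent ⟨f i, hm i⟩
  let E := hf.linearIndepOn_id.extend (Set.subset_univ _)
  let b : Module.Basis E (ResidueField A) (CotangentSpace A) := Module.Basis.extend hf.linearIndepOn_id
  haveI : Finite E := Module.Finite.finite_basis b
  have hEcard : E.ncard = Module.finrank (ResidueField A) (CotangentSpace A) := by
    rw [Module.finrank_eq_nat_card_basis b]; rfl
  have hvE : Set.range v ⊆ E := hf.linearIndepOn_id.subset_extend _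
  choose l hl using fun x : CotangentSpace A => (maximalIdeal A).toCotangent_surjective x
  let G : Set (maximalIdeal A) := Set.range (fun i => (⟨f i, hm i⟩ : maximalIdeal A)) ∪ l '' (E \ Set.range v)
  have hG : Submodule.span A G = ⊤ := by
    rw [← CotangentSpace.span_image_eq_top_iff, eq_top_iff]
    refine b.span_eq.ge.trans (Submodule.span_mono ?_)
    rintro _ ⟨⟨x, hx⟩, rfl⟩
    rw [show b ⟨x, hx⟩ = x from Module.Basis.extend_apply_self hf.linearIndepOn_id ⟨x, hx⟩]
    by_cases hxv : x ∈ Set.range v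
    · obtain ⟨i, rfl⟩ := hxv
      exact ⟨_, Or.inl ⟨i, rfl⟩, rfl⟩
    · exact ⟨l x, Or.inr ⟨x, ⟨hx, hxv⟩, rfl⟩, hl x⟩
  let S : Set B := Set.range (T f n) ∪ (fun x => algebraMap A B (l x : A)) '' (E \ Set.range v)
  have hSm : ∀ M : Ideal B, M.IsMaximal → Ideal.span S ≤ M := by
    intro M hM
    have hMA : M.comap (algebraMap A B) = maximalIdeal A :=
      IsLocalRing.eq_maximalIdeal (Ideal.isMaximal_comap_of_isIntegral_of_isMaximal M)
    rw [Ideal.span_le]
    rintro _ (⟨i, rfl⟩ | ⟨x, -, rfl⟩)
    · refine hM.isPrime.mem_of_pow_mem (n i) ?_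
      rw [T_pow]
      exact (hMA.ge (hm i) : f i ∈ M.comap (algebraMap A B))
    · exact (hMA.ge (l x).2 : (l x : A) ∈ M.comap (algebraMap A B))
  have hmB : (maximalIdeal A).map (algebraMap A B) ≤ Ideal.span S := by
    rw [Ideal.map_le_iff_le_comap]
    intro a ha
    have : (⟨a, ha⟩ : maximalIdeal A) ∈ Submodule.span A G := hG ▸ trivial
    have hcomap : Submodule.span A G ≤ Submodule.comap (maximalIdeal A).subtype ((Ideal.span S).comap (algebraMap A B)) := by
      rw [Submodule.span_le]
      rintro _ (⟨i, rfl⟩ | ⟨x, hx, rfl⟩)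
      · show algebraMap A B (f i) ∈ Ideal.span S
        rw [← T_pow f n i]
        exact Ideal.pow_mem_of_mem _ (Ideal.subset_span (α := B) (s := S) (Or.inl ⟨i, rfl⟩)) _ (hn i)
      · exact Ideal.subset_span (Or.inr ⟨x, hx, rfl⟩)
    exact hcomap this
  have hquot : ∀ y : B, ∃ a : A, y - algebraMap A B a ∈ Ideal.span S := by
    intro y
    have hy : y ∈ Algebra.adjoin A (Set.range (T f n)) := adjoin_T f n ▸ Algebra.mem_top
    induction hy using Algebra.adjoin_induction with
    | mem x hx =>
      refine ⟨0, ?_⟩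
      have : x ∈ Ideal.span S := Ideal.subset_span (α := B) (s := S) (Or.inl hx)
      simpa using this
    | algebraMap a => exact ⟨a, by simp⟩
    | add x y _ _ hx hy =>
      obtain ⟨a, ha⟩ := hx; obtain ⟨c, hc⟩ := hy
      exact ⟨a + c, by rw [map_add, add_sub_add_comm]; exact add_mem ha hc⟩
    | mul x y _ _ hx hy =>
      obtain ⟨a, ha⟩ := hx; obtain ⟨c, hc⟩ := hy
      refine ⟨a * c, ?_⟩
      have : x * y - algebraMap A B (a * c) = (x - algebraMap A B a) * y + algebraMap A B a * (y - algebraMap A B c) := by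
        rw [map_mul]; ring
      rw [this]
      exact add_mem (Ideal.mul_mem_right _ _ ha) (Ideal.mul_mem_left _ _ hc)
  have hmax : ∀ M : Ideal B, M.IsMaximal → M = Ideal.span S := by
    intro M hM
    refine le_antisymm (fun y hy => ?_) (hSm M hM)
    obtain ⟨a, ha⟩ := hquot y
    have haM : algebraMap A B a ∈ M := by simpa using sub_mem hy (hSm M hM ha)
    have haA : a ∈ maximalIdeal A := IsLocalRing.le_maximalIdeal (Ideal.IsPrime.ne_top (Ideal.comap_isPrime (algebraMap A B) M)) haM
    simpa using add_mem ha (hmB (Ideal.mem_map_of_mem _ haA))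
  haveI : Nontrivial B := hinj.nontrivial
  obtain ⟨M, hM⟩ := Ideal.exists_maximal B
  haveI : IsLocalRing B := IsLocalRing.of_unique_max_ideal ⟨M, hM, fun M' hM' => (hmax M' hM').trans (hmax M hM).symm⟩
  have hfinS : S.Finite := (Set.finite_range _).union (((Set.toFinite E).diff).image _)
  refine ⟨S, hfinS, Set.subset_union_left, ?_, inferInstance, hmax (maximalIdeal B) inferInstance⟩
  rw [hdim, ← (IsRegularLocalRing.iff_finrank_cotangentSpace A).1 ‹_›]
  refine Nat.cast_le.2 ((Set.ncard_union_le _ _).trans ?_)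
  rw [← hEcard, ← Set.ncard_diff_add_ncard_of_subset hvE (Set.toFinite E), add_comm]
  refine add_le_add (Set.ncard_image_le (Set.toFinite E).diff) ?_
  have h1 : (Set.range v).ncard = r := by
    rw [← Nat.card_coe_set_eq, Nat.card_range_of_injective hf.injective, Nat.card_fin]
  rw [h1, ← Nat.card_coe_set_eq]
  exact (Finite.card_range_le _).trans (Nat.card_fin r).le

theorem regular [IsRegularLocalRing A] (hm : ∀ i, f i ∈ maximalIdeal A)
    (hf : LinearIndependent (ResidueField A) (fun i => (maximalIdeal A).toCotangent ⟨f i, hm i⟩))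
    (hn : ∀ i, 1 ≤ n i) : IsRegularLocalRing (SGA1.kummerAlg A f n) := by
  haveI : IsDomain A := RegLoc6.isDomain_of_isRegularLocalRing A
  haveI := finite f n hn
  haveI : IsNoetherianRing (SGA1.kummerAlg A f n) := IsNoetherianRing.of_finite A _
  obtain ⟨S, hS, -, hcard, hloc, hmax⟩ := exists_gens f n hm hf hn
  refine IsRegularLocalRing.of_spanFinrank_maximalIdeal_le _ (le_trans ?_ hcard)
  rw [hmax]
  exact Nat.cast_le.2 (Submodule.spanFinrank_span_le_ncard_of_finite hS)

/-- The roots are regular parameters. -/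
theorem T_notMem_sq [IsRegularLocalRing A] (hm : ∀ i, f i ∈ maximalIdeal A)
    (hf : LinearIndependent (ResidueField A) (fun i => (maximalIdeal A).toCotangent ⟨f i, hm i⟩))
    (hn : ∀ i, 1 ≤ n i) [IsLocalRing (SGA1.kummerAlg A f n)] (i : Fin r) :
    T f n i ∈ maximalIdeal (SGA1.kummerAlg A f n) ∧ T f n i ∉ maximalIdeal (SGA1.kummerAlg A f n) ^ 2 := by
  haveI : IsDomain A := RegLoc6.isDomain_of_isRegularLocalRing A
  haveI := finite f n hn
  haveI : IsNoetherianRing (SGA1.kummerAlg A f n) := IsNoetherianRing.of_finite A _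
  obtain ⟨S, hS, hTS, hcard, hloc, hmax⟩ := exists_gens f n hm hf hn
  have hTm : T f n i ∈ maximalIdeal (SGA1.kummerAlg A f n) :=
    hmax ▸ Ideal.subset_span (hTS ⟨i, rfl⟩)
  refine ⟨hTm, fun h2 => ?_⟩
  let S' := S \ {T f n i}
  have hgen : maximalIdeal (SGA1.kummerAlg A f n) ≤ Ideal.span S' := by
    refine Submodule.le_of_le_smul_of_le_jacobson_bot (maximalIdeal _).fg_of_isNoetherianRing
      (IsLocalRing.maximalIdeal_le_jacobson ⊥) ?_
    rw [smul_eq_mul, ← sq, hmax]
    refine Ideal.span_le.2 fun x hx => ?_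
    by_cases hxT : x = T f n i
    · exact hxT ▸ Ideal.mem_sup_right (hmax ▸ h2)
    · exact Ideal.mem_sup_left (Ideal.subset_span ⟨hx, hxT⟩)
  have heq : maximalIdeal (SGA1.kummerAlg A f n) = Ideal.span S' :=
    le_antisymm hgen ((Ideal.span_mono Set.diff_subset).trans hmax.ge)
  have h1 := (ringKrullDim_le_spanFinrank_maximalIdeal (SGA1.kummerAlg A f n)).trans
    (Nat.cast_le.2 ((congrArg Submodule.spanFinrank heq).le.trans
      (Submodule.spanFinrank_span_le_ncard_of_finite (s := S') hS.diff)))
  have h3 := Nat.cast_le.1 (hcard.trans h1)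
  exact absurd h3 (not_le.2 (Set.ncard_lt_ncard (Set.diff_singleton_ssubset.2 (hTS ⟨i, rfl⟩)) hS))

theorem formallyEtale_away (hu : ∀ i, IsUnit (n i : A)) (hn : ∀ i, 1 ≤ n i) :
    Algebra.FormallyEtale A (Localization.Away (algebraMap A (SGA1.kummerAlg A f n) (∏ i, f i))) := by
  set B := SGA1.kummerAlg A f n
  set Bf := Localization.Away (algebraMap A B (∏ i, f i))
  rw [Algebra.FormallyEtale.iff_comp_bijective]
  intro C _ _ I hI
  have hInil : IsNilpotent I := ⟨2, hI⟩
  have hunit : ∀ g : Bf →ₐ[A] C ⧸ I, ∀ i, IsUnit (algebraMap A (C ⧸ I) (f i)) := by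
    intro g i
    have hP : IsUnit (algebraMap A Bf (∏ i, f i)) := by
      rw [IsScalarTower.algebraMap_apply A B Bf]
      exact IsLocalization.Away.algebraMap_isUnit (algebraMap A B (∏ i, f i))
    have := hP.map g
    rw [AlgHom.commutes, map_prod, IsUnit.prod_univ_iff] at this
    exact this i
  have ext_gen : ∀ {C' : Type u} [CommRing C'] [Algebra A C'] (g g' : Bf →ₐ[A] C'),
      (∀ i, g (algebraMap B Bf (T f n i)) = g' (algebraMap B Bf (T f n i))) → g = g' := by
    intro C' _ _ g g' h
    refine IsLocalization.algHom_ext (Submonoid.powers (algebraMap A B (∏ i, f i))) ?_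
    refine Ideal.Quotient.algHom_ext A (MvPolynomial.algHom_ext fun i => h i)
  refine ⟨fun g g' h => ?_, fun g => ?_⟩
  · refine ext_gen g g' fun i => ?_
    have hq : Ideal.Quotient.mk I (g (algebraMap B Bf (T f n i))) = Ideal.Quotient.mk I (g' (algebraMap B Bf (T f n i))) :=
      AlgHom.congr_fun h (algebraMap B Bf (T f n i))
    set x := g (algebraMap B Bf (T f n i)) with hx
    set y := g' (algebraMap B Bf (T f n i)) with hy
    have hxn : x ^ n i = algebraMap A C (f i) := by
      rw [hx, ← map_pow, ← map_pow, T_pow, ← IsScalarTower.algebraMap_apply, AlgHom.commutes]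
    have hyn : y ^ n i = algebraMap A C (f i) := by
      rw [hy, ← map_pow, ← map_pow, T_pow, ← IsScalarTower.algebraMap_apply, AlgHom.commutes]
    have hxy : x - y ∈ I := Ideal.Quotient.eq.1 hq
    have hyu : IsUnit y := by
      have : IsUnit (Ideal.Quotient.mk I (algebraMap A C (f i))) := hunit ((Ideal.Quotient.mkₐ A I).comp g) i
      have := (isUnit_pow_iff (Nat.one_le_iff_ne_zero.1 (hn i))).1 (hyn ▸
        (IsNilpotent.isUnit_quotient_mk_iff hInil).1 this)
      exact this
    -- x^n - y^n = n y^(n-1) (x - y)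
    obtain ⟨c, hc⟩ : ∃ c, (y + (x - y)) ^ n i = y ^ n i + (n i : C) * y ^ (n i - 1) * (x - y) + c * (x - y) ^ 2 := by
      obtain ⟨c, hc⟩ := Polynomial.binomExpansion ((Polynomial.X : Polynomial C) ^ n i) y (x - y)
      exact ⟨c, by simpa [Polynomial.derivative_X_pow] using hc⟩
    have h2 : (x - y) ^ 2 = 0 := by
      have := Ideal.pow_mem_pow hxy 2
      rwa [hI, Ideal.mem_bot] at this
    rw [add_sub_cancel, hxn, hyn, h2, mul_zero, add_zero, left_eq_add] at hc
    have hnu : IsUnit ((n i : C) * y ^ (n i - 1)) := by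
      refine IsUnit.mul ?_ (hyu.pow _)
      simpa using (hu i).map (algebraMap A C)
    exact sub_eq_zero.1 ((hnu.mul_right_eq_zero).1 hc)
  · have hfu : ∀ i, IsUnit (algebraMap A C (f i)) := fun i =>
      (IsNilpotent.isUnit_quotient_mk_iff hInil).1 (hunit g i)
    choose z hz using fun i => Ideal.Quotient.mk_surjective (g (algebraMap B Bf (T f n i)))
    have hzn : ∀ i, z i ^ n i - algebraMap A C (f i) ∈ I := fun i => by
      rw [← Ideal.Quotient.eq_zero_iff_mem, map_sub, map_pow, hz, ← map_pow, ← map_pow, T_pow,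
        ← IsScalarTower.algebraMap_apply, AlgHom.commutes, sub_eq_zero]
      rfl
    have hzu : ∀ i, IsUnit (z i) := fun i => by
      refine (isUnit_pow_iff (Nat.one_le_iff_ne_zero.1 (hn i))).1 ((IsNilpotent.isUnit_quotient_mk_iff hInil).1 ?_)
      rw [Ideal.Quotient.eq.2 (hzn i)]
      exact (hfu i).map _
    have hcorr : ∀ i, ∃ w, w ^ n i = algebraMap A C (f i) ∧ w - z i ∈ I := by
      intro i
      have hnu : IsUnit ((n i : C) * z i ^ (n i - 1)) := by
        refine IsUnit.mul ?_ ((hzu i).pow _)
        simpa using (hu i).map (algebraMap A C)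
      obtain ⟨u, hu'⟩ := hnu
      let t := -(↑u⁻¹ : C) * (z i ^ n i - algebraMap A C (f i))
      have ht : t ∈ I := Ideal.mul_mem_left _ _ (hzn i)
      obtain ⟨c, hc⟩ : ∃ c, (z i + t) ^ n i = z i ^ n i + (n i : C) * z i ^ (n i - 1) * t + c * t ^ 2 := by
        obtain ⟨c, hc⟩ := Polynomial.binomExpansion ((Polynomial.X : Polynomial C) ^ n i) (z i) t
        exact ⟨c, by simpa [Polynomial.derivative_X_pow] using hc⟩
      have h2 : t ^ 2 = 0 := by
        have := Ideal.pow_mem_pow ht 2
        rwa [hI, Ideal.mem_bot] at this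
      refine ⟨z i + t, ?_, by simpa using ht⟩
      rw [hc, h2, ← hu']
      have : (u : C) * t = -(z i ^ n i - algebraMap A C (f i)) := by
        simp only [t, ← mul_assoc, mul_neg, Units.mul_inv, neg_mul, one_mul]
      rw [this]; ring
    choose w hw hwI using hcorr
    let φ : B →ₐ[A] C := Ideal.Quotient.liftₐ _ (MvPolynomial.aeval w) (by
      intro a ha
      induction ha using Submodule.span_induction with
      | mem x hx => obtain ⟨i, rfl⟩ := hx; simp [hw]
      | zero => simp
      | add x y _ _ hx hy => simp [hx, hy]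
      | smul a x _ hx => simp [hx])
    have hφu : ∀ y : Submonoid.powers (algebraMap A B (∏ i, f i)), IsUnit (φ y) := by
      rintro ⟨_, m, rfl⟩
      simp only [map_pow, AlgHom.commutes, map_prod]
      exact ((IsUnit.prod_univ_iff).2 hfu).pow m
    refine ⟨IsLocalization.liftAlgHom hφu, ext_gen _ _ fun i => ?_⟩
    show Ideal.Quotient.mk I (IsLocalization.liftAlgHom hφu (algebraMap B Bf (T f n i))) = _
    rw [IsLocalization.coe_liftAlgHom, IsLocalization.lift_eq, ← hz i]
    refine Ideal.Quotient.eq.2 ?_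
    have e : φ (T f n i) = w i := (Ideal.Quotient.lift_mk _ _ _).trans (MvPolynomial.aeval_X w i)
    exact (congrArg (· - z i) e).symm ▸ hwI i

theorem etale_away (hu : ∀ i, IsUnit (n i : A)) (hn : ∀ i, 1 ≤ n i) :
    letI := (Localization.awayMap (algebraMap A (SGA1.kummerAlg A f n)) (∏ i, f i)).toAlgebra
    Algebra.Etale (Localization.Away (∏ i, f i))
      (Localization.Away (algebraMap A (SGA1.kummerAlg A f n) (∏ i, f i))) := by
  letI := (Localization.awayMap (algebraMap A (SGA1.kummerAlg A f n)) (∏ i, f i)).toAlgebra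
  set B := SGA1.kummerAlg A f n
  haveI : IsScalarTower A (Localization.Away (∏ i, f i)) (Localization.Away (algebraMap A B (∏ i, f i))) :=
    IsScalarTower.of_algebraMap_eq fun a => by
      rw [RingHom.algebraMap_toAlgebra, Localization.awayMap, IsLocalization.Away.map, IsLocalization.map_eq]
      rfl
  haveI := formallyEtale_away f n hu hn
  haveI : Algebra.FinitePresentation A B :=
    Algebra.FinitePresentation.quotient (Submodule.fg_span (Set.finite_range _))
  haveI : Algebra.FinitePresentation A (Localization.Away (algebraMap A B (∏ i, f i))) :=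
    haveI := IsLocalization.Away.finitePresentation (S := Localization.Away (algebraMap A B (∏ i, f i))) (algebraMap A B (∏ i, f i))
    Algebra.FinitePresentation.trans A B _
  exact { formallyEtale := Algebra.FormallyEtale.localization_base (Submonoid.powers (∏ i, f i))
          finitePresentation := Algebra.FinitePresentation.of_restrict_scalars_finitePresentation A _ _ }

end Groth.Agent.H9Kummer
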