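import Groth.Agent.S1194
import Groth.Agent.CotTLib.SmoothField
import Groth.Agent.RegLoc6.Basic
import Mathlib.RingTheory.Smooth.Flat
import Mathlib.RingTheory.Smooth.Locus

/-!
# The complement of a fibrewise non-trivial divisor in a smooth local algebra is connected
-/

set_option autoImplicit false
set_option linter.style.haveILetI false
set_option backward.isDefEq.respectTransparency false
set_option backward.isDefEq.respectTransparency.types false

universe u

open IsLocalRing TensorProduct

noncomputable section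

namespace Groth.Agent.H9Kummer.ConnAway

variable {R : Type u} [CommRing R] {B₀ : Type u} [CommRing B₀] [Algebra R B₀]

theorem flat_localization [Algebra.FinitePresentation R B₀] (q : Ideal B₀) [q.IsPrime]
    [h : Algebra.IsSmoothAt R q] : Module.Flat R (Localization.AtPrime q) := by
  have hq : (⟨q, inferInstance⟩ : PrimeSpectrum B₀) ∈ Algebra.smoothLocus R B₀ := h
  obtain ⟨_, ⟨_, ⟨g, rfl⟩, rfl⟩, hg, hsub⟩ :=
    PrimeSpectrum.isBasis_basic_opens.exists_subset_of_mem_open hq Algebra.isOpen_smoothLocus
  haveI := Algebra.basicOpen_subset_smoothLocus_iff_smooth.1 hsub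
  have hle : Submonoid.powers g ≤ q.primeCompl := Submonoid.powers_le.2 hg
  letI := IsLocalization.localizationAlgebraOfSubmonoidLe (Localization.Away g) (Localization.AtPrime q) _ _ hle
  haveI := IsLocalization.localization_isScalarTower_of_submonoid_le (Localization.Away g) (Localization.AtPrime q) _ _ hle
  haveI : IsScalarTower R (Localization.Away g) (Localization.AtPrime q) := .to₁₃₄ _ B₀ _ _
  haveI := IsLocalization.isLocalization_of_submonoid_le (Localization.Away g) (Localization.AtPrime q) _ _ hle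
  haveI : Module.Flat (Localization.Away g) (Localization.AtPrime q) :=
    IsLocalization.flat _ (q.primeCompl.map (algebraMap B₀ (Localization.Away g)))
  exact Module.Flat.trans R (Localization.Away g) _

theorem isDomain_fibre [IsLocalRing R] [Algebra.FinitePresentation R B₀] (q : Ideal B₀) [q.IsPrime]
    [Algebra.IsSmoothAt R q] (hq : (maximalIdeal R).map (algebraMap R B₀) ≤ q) :
    IsDomain (Localization.AtPrime q ⧸ (maximalIdeal R).map (algebraMap R (Localization.AtPrime q))) := by
  set I := (maximalIdeal R).map (algebraMap R B₀)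
  set Bq := Localization.AtPrime q
  have hJm : (maximalIdeal R).map (algebraMap R Bq) = I.map (algebraMap B₀ Bq) := by
    rw [Ideal.map_map, ← IsScalarTower.algebraMap_eq]
  rw [hJm]
  let F := B₀ ⧸ I
  let Fq := Bq ⧸ I.map (algebraMap B₀ Bq)
  haveI : (q.map (Ideal.Quotient.mk I)).IsPrime :=
    Ideal.map_isPrime_of_surjective Ideal.Quotient.mk_surjective (by rw [Ideal.mk_ker]; exact hq)
  have hsub : Algebra.algebraMapSubmonoid F q.primeCompl = (q.map (Ideal.Quotient.mk I)).primeCompl := by
    ext z
    obtain ⟨b, rfl⟩ := Ideal.Quotient.mk_surjective z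
    constructor
    · rintro ⟨s, hs, he⟩ hb
      rw [← he] at hb
      exact hs ((Ideal.mem_map_iff_of_surjective _ Ideal.Quotient.mk_surjective).1 hb |>.elim fun t ht =>
        (Submodule.sub_mem_iff_left q ht.1).1 (hq (Ideal.Quotient.eq.1 ht.2.symm)))
    · intro hb
      exact ⟨b, fun hbq => hb (Ideal.mem_map_of_mem _ hbq), rfl⟩
  letI : Algebra (ResidueField R) F := (Ideal.Quotient.lift _ ((Ideal.Quotient.mk I).comp (algebraMap R B₀))
    fun x hx => Ideal.Quotient.eq_zero_iff_mem.2 (Ideal.mem_map_of_mem _ hx)).toAlgebra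
  haveI : IsScalarTower R (ResidueField R) F := .of_algebraMap_eq fun _ => rfl
  haveI : Algebra.FiniteType R F := inferInstance
  haveI : Algebra.FiniteType (ResidueField R) F := Algebra.FiniteType.of_restrictScalars_finiteType R _ _
  haveI : IsLocalization (q.map (Ideal.Quotient.mk I)).primeCompl Fq := hsub ▸ (inferInstance : IsLocalization (Algebra.algebraMapSubmonoid F q.primeCompl) Fq)
  let e : Localization.AtPrime (q.map (Ideal.Quotient.mk I)) ≃ₐ[F] Fq :=
    IsLocalization.algEquiv (q.map (Ideal.Quotient.mk I)).primeCompl _ _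
  haveI : Algebra.IsSmoothAt (ResidueField R) (q.map (Ideal.Quotient.mk I)) := by
    letI : Algebra (ResidueField R) Fq := ((algebraMap F Fq).comp (algebraMap (ResidueField R) F)).toAlgebra
    haveI : IsScalarTower (ResidueField R) F Fq := .of_algebraMap_eq fun _ => rfl
    haveI : IsScalarTower R (ResidueField R) Fq := .of_algebraMap_eq fun _ => rfl
    refine (Algebra.FormallySmooth.iff_of_equiv (e.restrictScalars (ResidueField R))).2 ?_
    refine Algebra.FormallySmooth.of_comp_surjective fun C _ _ J hJ g => ?_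
    letI : Algebra R C := ((algebraMap (ResidueField R) C).comp (residue R)).toAlgebra
    haveI : IsScalarTower R (ResidueField R) C := .of_algebraMap_eq fun _ => rfl
    obtain ⟨l, hl⟩ := Algebra.FormallySmooth.comp_surjective R Bq J hJ
      ((g.restrictScalars R).comp (Ideal.Quotient.mkₐ R _))
    have hker : I.map (algebraMap B₀ Bq) ≤ RingHom.ker l.toRingHom := by
      rw [← hJm, Ideal.map_le_iff_le_comap]
      intro r hr
      rw [Ideal.mem_comap, RingHom.mem_ker]
      show l (algebraMap R Bq r) = 0
      rw [l.commutes, IsScalarTower.algebraMap_apply R (ResidueField R) C]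
      show algebraMap _ C (residue R r) = 0
      rw [(residue_eq_zero_iff r).2 hr, map_zero]
    refine ⟨{ Ideal.Quotient.lift _ l.toRingHom (fun x hx => hker hx) with commutes' := fun c => ?_ }, ?_⟩
    · obtain ⟨r, rfl⟩ := residue_surjective c
      exact l.commutes r
    · refine AlgHom.ext fun z => ?_
      obtain ⟨z, rfl⟩ := Ideal.Quotient.mk_surjective z
      exact AlgHom.congr_fun hl z
  haveI := CotTLib.isRegularLocalRing_of_isSmoothAt (k := ResidueField R) (q.map (Ideal.Quotient.mk I))
  haveI := RegLoc6.isDomain_of_isRegularLocalRing (Localization.AtPrime (q.map (Ideal.Quotient.mk I)))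
  exact e.symm.toRingEquiv.toMulEquiv.isDomain (B := Localization.AtPrime (q.map (Ideal.Quotient.mk I)))

theorem mem_nonZeroDivisors [IsLocalRing R] {B : Type u} [CommRing B] [IsLocalRing B] [Algebra R B]
    [IsLocalHom (algebraMap R B)] (hB : FlatCA.EssFinitePresentation R B) [Module.Flat R B]
    [IsDomain (B ⧸ (maximalIdeal R).map (algebraMap R B))] {c : B}
    (hc : c ∉ (maximalIdeal R).map (algebraMap R B)) : c ∈ nonZeroDivisors B := by
  set J := (maximalIdeal R).map (algebraMap R B)
  let m := maximalIdeal R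
  have hbij := Ideal.bijective_algebraMap_quotient_residueField m
  have hsurj : ∀ κ : m.ResidueField, ∃ r : R, algebraMap R m.ResidueField r = κ := fun κ => by
    obtain ⟨r, rfl⟩ := hbij.2 κ
    obtain ⟨r, rfl⟩ := Ideal.Quotient.mk_surjective r
    exact ⟨r, rfl⟩
  let toJ : (R ⧸ m) →ₐ[R] B ⧸ J := Ideal.Quotient.liftₐ _ (Algebra.ofId R (B ⧸ J)) fun r hr =>
    Ideal.Quotient.eq_zero_iff_mem.2 (Ideal.mem_map_of_mem _ hr)
  let toK : (R ⧸ m) ≃ₐ[R] m.ResidueField := AlgEquiv.ofBijective (IsScalarTower.toAlgHom R (R ⧸ m) m.ResidueField) hbij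
  let ψ : m.Fiber B →ₐ[R] B ⧸ J := Algebra.TensorProduct.lift (toJ.comp toK.symm.toAlgHom)
    (Ideal.Quotient.mkₐ R J) fun _ _ => .all _ _
  letI : Algebra B (m.Fiber B) := Algebra.TensorProduct.rightAlgebra
  have hψ : ∀ w : B, ψ (algebraMap B (m.Fiber B) w) = Ideal.Quotient.mk J w := fun w => by
    show ψ (1 ⊗ₜ[R] w) = _
    simp [ψ]
  have hfs : ∀ F : m.Fiber B, ∃ w : B, F = algebraMap B (m.Fiber B) w := by
    intro F
    induction F using TensorProduct.induction_on with
    | zero => exact ⟨0, (map_zero _).symm⟩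
    | tmul κ w =>
      obtain ⟨r, rfl⟩ := hsurj κ
      refine ⟨r • w, ?_⟩
      show algebraMap R m.ResidueField r ⊗ₜ[R] w = 1 ⊗ₜ[R] (r • w)
      rw [TensorProduct.tmul_smul, TensorProduct.smul_tmul', Algebra.smul_def, mul_one]
    | add x y hx hy =>
      obtain ⟨w, rfl⟩ := hx; obtain ⟨w', rfl⟩ := hy
      exact ⟨w + w', (map_add _ _ _).symm⟩
  have hrep : ∀ z : (m.Fiber B) ⊗[B] B, ∃ F : m.Fiber B, z = F ⊗ₜ[B] (1 : B) := fun z => by
      induction z using TensorProduct.induction_on with
      | zero => exact ⟨0, (TensorProduct.zero_tmul _ _).symm⟩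
      | tmul F w =>
        refine ⟨w • F, ?_⟩
        rw [TensorProduct.smul_tmul, smul_eq_mul, mul_one]
      | add x y hx hy =>
        obtain ⟨F, rfl⟩ := hx; obtain ⟨F', rfl⟩ := hy
        exact ⟨F + F', (TensorProduct.add_tmul _ _ _).symm⟩
  have hmem : c ∈ FlatCA.nzdFiber R B B := fun z hz => by
    obtain ⟨F, hF⟩ := hrep z
    obtain ⟨w, rfl⟩ := hfs F
    subst hF
    have h2 := congrArg (TensorProduct.rid B (m.Fiber B)) (show c • (algebraMap B (m.Fiber B) w ⊗ₜ[B] (1 : B)) = 0 from hz)
    rw [TensorProduct.smul_tmul', TensorProduct.rid_tmul, one_smul, map_zero, Algebra.smul_def, ← map_mul] at h2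
    have h3 := congrArg ψ h2
    rw [hψ, map_zero, Ideal.Quotient.eq_zero_iff_mem] at h3
    have hw : w ∈ J := (((Ideal.Quotient.isDomain_iff_prime J).1 inferInstance).mem_or_mem h3).resolve_left hc
    have hle : J ≤ RingHom.ker (algebraMap B (m.Fiber B)) := Ideal.map_le_iff_le_comap.2 fun r hr => by
      rw [Ideal.mem_comap, RingHom.mem_ker]
      show (1 : m.ResidueField) ⊗ₜ[R] algebraMap R B r = 0
      rw [Algebra.algebraMap_eq_smul_one, TensorProduct.tmul_smul, TensorProduct.smul_tmul',
        ← Algebra.algebraMap_eq_smul_one]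
      rw [show algebraMap R m.ResidueField r = 0 from (Ideal.algebraMap_residueField_eq_zero).2 hr,
        TensorProduct.zero_tmul]
    show algebraMap B (m.Fiber B) w ⊗ₜ[B] (1 : B) = 0
    rw [show algebraMap B (m.Fiber B) w = 0 from hle hw, TensorProduct.zero_tmul]
  refine mem_nonZeroDivisors_iff_right.2 fun z hz => ?_
  have hu := (Groth.Agent.S1194.result hB B).1 c hmem R
  have := hu (a₁ := (1 : R) ⊗ₜ[R] z) (a₂ := 0) (by
    rw [map_zero, LinearMap.lTensor_tmul]
    show (1 : R) ⊗ₜ[R] (c • z) = 0
    rw [smul_eq_mul, mul_comm, hz, TensorProduct.tmul_zero])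
  simpa using congrArg (TensorProduct.lid R B) this

theorem main [IsLocalRing R] [Algebra.FinitePresentation R B₀] (q : Ideal B₀) [q.IsPrime]
    [Algebra.IsSmoothAt R q] (hq : (maximalIdeal R).map (algebraMap R B₀) ≤ q)
    (a : Localization.AtPrime q) (ha : a ∉ (maximalIdeal R).map (algebraMap R (Localization.AtPrime q)))
    (L : Type u) [CommRing L] [Algebra (Localization.AtPrime q) L] [IsLocalization.Away a L] :
    Nontrivial L ∧ ∀ x : L, IsIdempotentElem x → x = 0 ∨ x = 1 := by
  set J := (maximalIdeal R).map (algebraMap R (Localization.AtPrime q)) with hJdef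
  haveI := flat_localization (R := R) q
  haveI : IsDomain ((Localization.AtPrime q) ⧸ J) := isDomain_fibre q hq
  haveI : IsLocalHom (algebraMap R (Localization.AtPrime q)) := ⟨fun r hr => by
    by_contra hn
    have : algebraMap R B₀ r ∈ q := hq (Ideal.mem_map_of_mem _ ((mem_maximalIdeal r).2 hn))
    exact (mem_maximalIdeal _).1 ((IsLocalization.AtPrime.to_map_mem_maximal_iff (Localization.AtPrime q) q _).2 this)
      (by rwa [← IsScalarTower.algebraMap_apply])⟩
  have hfp : FlatCA.EssFinitePresentation R (Localization.AtPrime q) :=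
    ⟨B₀, inferInstance, inferInstance, inferInstance, inferInstance, q.primeCompl, inferInstance, inferInstance⟩
  have hnzd : ∀ {c : (Localization.AtPrime q)}, c ∉ J → c ∈ nonZeroDivisors (Localization.AtPrime q) := fun hc => mem_nonZeroDivisors hfp hc
  have han : ∀ m : ℕ, a ^ m ∉ J := fun m hm => ha ((Ideal.Quotient.isDomain_iff_prime J).1 inferInstance |>.mem_of_pow_mem m hm)
  have hinj : Function.Injective (algebraMap (Localization.AtPrime q) L) :=
    IsLocalization.injective L (Submonoid.powers_le.2 (hnzd ha))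
  refine ⟨hinj.nontrivial, fun x hx => ?_⟩
  haveI : IsLocalization (Submonoid.powers a) L := ‹IsLocalization.Away a L›
  obtain ⟨b, ⟨v, hv⟩, rfl⟩ := IsLocalization.exists_mk'_eq (Submonoid.powers a) x
  obtain ⟨N, hN⟩ := hv
  simp only at hN
  subst hN
  have hsp := IsLocalization.mk'_spec L b (⟨a ^ N, ⟨N, rfl⟩⟩ : Submonoid.powers a)
  have hb : b * b = a ^ N * b := hinj (by
    rw [map_mul, map_mul, ← hsp]
    generalize IsLocalization.mk' L b (⟨a ^ N, N, rfl⟩ : Submonoid.powers a) = x at hx
    simp only at *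
    rw [mul_mul_mul_comm, hx.eq]; ring)
  by_cases hbJ : b ∈ J
  · left
    have h0 : b * (b - a ^ N) = 0 := by rw [mul_sub, hb, mul_comm, sub_self]
    have : b = 0 := mem_nonZeroDivisors_iff_right.1 (hnzd fun h => han N (by simpa using J.sub_mem hbJ h)) b h0
    rw [this, IsLocalization.mk'_zero]
  · right
    have : b = a ^ N := by
      have h0 : (b - a ^ N) * b = 0 := by rw [sub_mul, hb, sub_self]
      exact sub_eq_zero.1 (mem_nonZeroDivisors_iff_right.1 (hnzd hbJ) _ h0)
    subst this
    exact IsLocalization.mk'_self L _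

end Groth.Agent.H9Kummer.ConnAway
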