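import Groth.Prelude.Def_SGA1t
import Groth.Agent.H9Kummer.Basic
import Groth.Agent.H9Kummer.ConnAway

/-!
# Kummer algebras on a finite index type: localisation, locality, étaleness and connectedness
-/

set_option autoImplicit false
set_option linter.style.haveILetI false
set_option backward.isDefEq.respectTransparency false
set_option backward.isDefEq.respectTransparency.types false

universe u

open IsLocalRing

noncomputable section

namespace Groth.Agent.H9Kummer.Alg

variable {A : Type u} [CommRing A] {ι : Type} (a : ι → A) (n : ι → ℕ)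

abbrev T (i : ι) : SGA1t.kummer A a n := Ideal.Quotient.mk _ (MvPolynomial.X i)

theorem T_pow (i : ι) : T a n i ^ n i = algebraMap A _ (a i) := by
  rw [T, ← map_pow]
  exact Ideal.Quotient.eq.2 (Ideal.subset_span ⟨i, rfl⟩)

theorem adjoin_T : Algebra.adjoin A (Set.range (T a n)) = ⊤ := by
  rw [show Set.range (T a n) = (Ideal.Quotient.mkₐ A _) '' Set.range MvPolynomial.X from (Set.range_comp _ _),
    ← AlgHom.map_adjoin, MvPolynomial.adjoin_range_X, Algebra.map_top, AlgHom.range_eq_top]
  exact Ideal.Quotient.mkₐ_surjective A _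

variable [Finite ι]

theorem finite (hn : ∀ i, 1 ≤ n i) : Module.Finite A (SGA1t.kummer A a n) := by
  haveI : Algebra.IsIntegral A (SGA1t.kummer A a n) := ⟨fun x => by
    have : Algebra.adjoin A (Set.range (T a n)) ≤ integralClosure A _ := Algebra.adjoin_le (by
      rintro _ ⟨i, rfl⟩
      refine IsIntegral.of_pow (hn i) ?_
      rw [T_pow]
      exact isIntegral_algebraMap)
    exact this (adjoin_T a n ▸ Algebra.mem_top)⟩
  haveI : Algebra.FiniteType A (SGA1t.kummer A a n) := inferInstance
  exact Algebra.IsIntegral.finite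

theorem exists_prime_over (P : Ideal A) [P.IsPrime] (ha : ∀ i, a i ∈ P) (hn : ∀ i, 1 ≤ n i) :
    ∃ q : Ideal (SGA1t.kummer A a n), q.IsPrime ∧ q.comap (algebraMap A _) = P := by
  let ε : SGA1t.kummer A a n →+* A ⧸ P := Ideal.Quotient.lift _
    (MvPolynomial.eval₂Hom (Ideal.Quotient.mk P) 0) (fun x hx => by
      refine (Ideal.span_le.2 ?_ hx : x ∈ RingHom.ker (MvPolynomial.eval₂Hom (Ideal.Quotient.mk P) 0))
      rintro _ ⟨i, rfl⟩
      simp [zero_pow (Nat.one_le_iff_ne_zero.1 (hn i)), Ideal.Quotient.eq_zero_iff_mem.2 (ha i)])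
  refine ⟨RingHom.ker ε, RingHom.ker_isPrime ε, ?_⟩
  ext x
  rw [Ideal.mem_comap, RingHom.mem_ker, ← Ideal.Quotient.eq_zero_iff_mem]
  show MvPolynomial.eval₂Hom _ _ (MvPolynomial.C x) = 0 ↔ _
  rw [MvPolynomial.eval₂Hom_C]

theorem isLocalRing [IsLocalRing A] (ha : ∀ i, a i ∈ maximalIdeal A) (hn : ∀ i, 1 ≤ n i) :
    IsLocalRing (SGA1t.kummer A a n) := by
  haveI := finite a n hn
  obtain ⟨q, hq, hqc⟩ := exists_prime_over a n (maximalIdeal A) ha hn
  haveI : q.IsMaximal := Ideal.isMaximal_of_isIntegral_of_isMaximal_comap q (by rw [hqc]; exact IsLocalRing.maximalIdeal.isMaximal A)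
  refine IsLocalRing.of_unique_max_ideal ⟨q, inferInstance, fun M hM => ?_⟩
  have hMA : M.comap (algebraMap A _) = maximalIdeal A :=
    eq_maximalIdeal (Ideal.isMaximal_comap_of_isIntegral_of_isMaximal M)
  refine (hM.eq_of_le ‹q.IsMaximal›.ne_top fun x hx => ?_)
  have hT : ∀ (N : Ideal (SGA1t.kummer A a n)) [N.IsPrime], N.comap (algebraMap A _) = maximalIdeal A → ∀ i, T a n i ∈ N := by
    intro N _ hN i
    refine Ideal.IsPrime.mem_of_pow_mem inferInstance (n i) ?_
    rw [T_pow]
    exact (hN.ge (ha i) :)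
  haveI := hM.isPrime
  obtain ⟨c, hc⟩ : ∃ c : A, ∀ (N : Ideal (SGA1t.kummer A a n)) [N.IsPrime], N.comap (algebraMap A _) = maximalIdeal A →
      x - algebraMap A _ c ∈ N := by
    have hxa : x ∈ Algebra.adjoin A (Set.range (T a n)) := adjoin_T a n ▸ Algebra.mem_top
    clear hx
    induction hxa using Algebra.adjoin_induction with
    | mem y hy => obtain ⟨i, rfl⟩ := hy; exact ⟨0, fun N _ hN => by simpa using hT N hN i⟩
    | algebraMap c => exact ⟨c, fun N _ _ => by simp⟩
    | add y z _ _ hy hz =>
      obtain ⟨c, hc⟩ := hy; obtain ⟨d, hd⟩ := hz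
      exact ⟨c + d, fun N _ hN => by rw [map_add, add_sub_add_comm]; exact add_mem (hc N hN) (hd N hN)⟩
    | mul y z _ _ hy hz =>
      obtain ⟨c, hc⟩ := hy; obtain ⟨d, hd⟩ := hz
      refine ⟨c * d, fun N _ hN => ?_⟩
      rw [show y * z - algebraMap A _ (c * d) =
          (y - algebraMap A _ c) * z + algebraMap A _ c * (z - algebraMap A _ d) by rw [map_mul]; ring]
      exact add_mem (Ideal.mul_mem_right _ _ (hc N hN)) (Ideal.mul_mem_left _ _ (hd N hN))
  have : algebraMap A (SGA1t.kummer A a n) c ∈ M := by simpa using sub_mem hx (hc M hMA)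
  have hcq : c ∈ q.comap (algebraMap A _) := hqc.symm ▸ hMA ▸ this
  simpa using add_mem (hc q hqc) (Ideal.mem_comap.1 hcq)

/-- Reindexing by `Fin (Nat.card ι)`. -/
def reindex : SGA1t.kummer A a n ≃ₐ[A]
    SGA1.kummerAlg A (a ∘ (Finite.equivFin ι).symm) (n ∘ (Finite.equivFin ι).symm) :=
  Ideal.quotientEquivAlg _ _ (MvPolynomial.renameEquiv A (Finite.equivFin ι)) (by
    rw [Ideal.map_span, ← Set.range_comp]
    refine congrArg Ideal.span ?_
    rw [← (Finite.equivFin ι).surjective.range_comp]
    refine congrArg Set.range (funext fun i => ?_)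
    simp [MvPolynomial.renameEquiv_apply])

theorem awayMap_etale_congr {A B B' : Type u} [CommRing A] [CommRing B] [CommRing B'] [Algebra A B] [Algebra A B']
    (e : B ≃ₐ[A] B') (c : A)
    (h : RingHom.Etale (R := Localization.Away c) (S := Localization.Away (algebraMap A B' c))
      (Localization.awayMap (algebraMap A B') c)) :
    RingHom.Etale (R := Localization.Away c) (S := Localization.Away (algebraMap A B c))
      (Localization.awayMap (algebraMap A B) c) := by
  let φ : Localization.Away (algebraMap A B c) ≃+* Localization.Away (algebraMap A B' c) :=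
    IsLocalization.ringEquivOfRingEquiv (M := Submonoid.powers (algebraMap A B c))
      (T := Submonoid.powers (algebraMap A B' c)) _ _ e.toRingEquiv (by
        rw [Submonoid.map_powers]
        exact congrArg _ (e.commutes c))
  have hc : (Localization.awayMap (algebraMap A B) c) =
      φ.symm.toRingHom.comp (Localization.awayMap (algebraMap A B') c) := by
    refine IsLocalization.ringHom_ext (Submonoid.powers c) (RingHom.ext fun x => φ.injective ?_)
    simp only [RingHom.comp_apply, RingEquiv.toRingHom_eq_coe, RingHom.coe_coe, RingEquiv.apply_symm_apply,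
      Localization.awayMap, IsLocalization.Away.map, IsLocalization.map_eq]
    rw [IsLocalization.ringEquivOfRingEquiv_eq]
    exact congrArg _ (e.commutes x)
  rw [hc]
  exact RingHom.Etale.respectsIso.1 _ φ.symm h

set_option maxHeartbeats 1000000 in
theorem etale_away [Fintype ι] (hu : ∀ i, IsUnit (n i : A)) (hn : ∀ i, 1 ≤ n i) :
    RingHom.Etale (R := Localization.Away (∏ i, a i))
      (S := Localization.Away (algebraMap A (SGA1t.kummer A a n) (∏ i, a i)))
      (Localization.awayMap (algebraMap A (SGA1t.kummer A a n)) (∏ i, a i)) := by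
  let e := (Finite.equivFin ι).symm
  refine awayMap_etale_congr (reindex a n) (∏ i, a i) ?_
  have h : ∀ c : A, c = ∏ i, (a ∘ e) i → RingHom.Etale (R := Localization.Away c)
      (S := Localization.Away (algebraMap A (SGA1.kummerAlg A (a ∘ e) (n ∘ e)) c))
      (Localization.awayMap (algebraMap A (SGA1.kummerAlg A (a ∘ e) (n ∘ e))) c) := fun c hc => by
    subst hc
    exact Groth.Agent.H9Kummer.etale_away (a ∘ e) (n ∘ e) (fun i => hu _) (fun i => hn _)
  exact h _ (e.prod_comp a).symm

end Groth.Agent.H9Kummer.Alg
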