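import Groth.Prelude.Def_SGA1t
import Mathlib.RingTheory.Smooth.Basic
import Mathlib.RingTheory.RingHom.Smooth
import Mathlib.RingTheory.RingHom.Etale
import Mathlib.AlgebraicGeometry.AffineSpace
import Mathlib.AlgebraicGeometry.Morphisms.Etale

/-!
# Kummer algebras of relative coordinates are formally smooth
-/

set_option autoImplicit false
set_option linter.style.haveILetI false
set_option backward.isDefEq.respectTransparency false
set_option backward.isDefEq.respectTransparency.types false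

universe u

open CategoryTheory AlgebraicGeometry

noncomputable section

namespace Groth.Agent.H9Kummer.Smooth

/-- Roots of coordinates of an étale chart keep formal smoothness over the base. -/
theorem formallySmooth_kummer {R A : Type u} [CommRing R] [CommRing A] {σ : Type u} [Algebra R A]
    [Algebra (MvPolynomial σ R) A] [IsScalarTower R (MvPolynomial σ R) A]
    [Algebra.FormallyEtale (MvPolynomial σ R) A] {ι : Type} (e : ι → σ) (he : Function.Injective e)
    (a : ι → A) (ha : ∀ i, a i = algebraMap (MvPolynomial σ R) A (MvPolynomial.X (e i))) (n : ι → ℕ) :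
    Algebra.FormallySmooth R (SGA1t.kummer A a n) := by
  classical
  refine Algebra.FormallySmooth.of_comp_surjective fun C _ _ I hI h => ?_
  let U : ι → SGA1t.kummer A a n := fun i => Ideal.Quotient.mk _ (MvPolynomial.X i)
  have hU : ∀ i, U i ^ n i = algebraMap A (SGA1t.kummer A a n) (a i) := fun i => by
    rw [← map_pow]
    exact Ideal.Quotient.eq.2 (Ideal.subset_span ⟨i, rfl⟩)
  choose c hc using fun i => Ideal.Quotient.mk_surjective (I := I) (h (U i))
  choose l hl using fun s => Ideal.Quotient.mk_surjective (I := I)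
    (h (algebraMap A (SGA1t.kummer A a n) (algebraMap (MvPolynomial σ R) A (MvPolynomial.X s))))
  let d : σ → C := Function.extend e (fun i => c i ^ n i) l
  let ψ : MvPolynomial σ R →ₐ[R] C := MvPolynomial.aeval d
  have hψ : (Ideal.Quotient.mkₐ R I).comp ψ = (h.comp (IsScalarTower.toAlgHom R A (SGA1t.kummer A a n))).comp
      (IsScalarTower.toAlgHom R (MvPolynomial σ R) A) := MvPolynomial.algHom_ext fun s => by
    simp only [AlgHom.comp_apply, IsScalarTower.toAlgHom_apply, Ideal.Quotient.mkₐ_eq_mk, ψ, MvPolynomial.aeval_X]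
    by_cases hs : ∃ i, e i = s
    · obtain ⟨i, rfl⟩ := hs
      rw [show d (e i) = c i ^ n i from he.extend_apply _ _ i, map_pow, hc, ← map_pow, hU, ha]
    · rw [show d s = l s from Function.extend_apply' _ _ _ hs, hl]
  letI : Algebra (MvPolynomial σ R) C := ψ.toRingHom.toAlgebra
  haveI : IsScalarTower R (MvPolynomial σ R) C := .of_algebraMap_eq fun r => (ψ.commutes r).symm
  let hA : A →ₐ[MvPolynomial σ R] C ⧸ I :=
    { (h.toRingHom.comp (algebraMap A (SGA1t.kummer A a n))) with
      commutes' := fun p => (AlgHom.congr_fun hψ p).symm }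
  obtain ⟨g, hg⟩ := Algebra.FormallySmooth.comp_surjective (MvPolynomial σ R) A I hI hA
  let K₀ : MvPolynomial ι A →+* C := MvPolynomial.eval₂Hom g.toRingHom c
  have hker : ∀ p ∈ Ideal.span (Set.range fun i => (MvPolynomial.X i : MvPolynomial ι A) ^ n i - MvPolynomial.C (a i)),
      K₀ p = 0 := fun p hp => by
    refine (Ideal.span_le.2 ?_ hp : p ∈ RingHom.ker K₀)
    rintro _ ⟨i, rfl⟩
    rw [SetLike.mem_coe, RingHom.mem_ker, map_sub, map_pow]
    simp only [K₀, MvPolynomial.eval₂Hom_X', MvPolynomial.eval₂Hom_C]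
    have h1 : g (a i) = ψ (MvPolynomial.X (e i)) := by rw [ha]; exact g.commutes _
    refine sub_eq_zero.2 ?_
    show c i ^ n i = g (a i)
    rw [h1]
    simp only [ψ, MvPolynomial.aeval_X]
    exact (he.extend_apply (fun i => c i ^ n i) l i).symm
  let G : SGA1t.kummer A a n →+* C := Ideal.Quotient.lift _ K₀ hker
  have hGA : ∀ x, G (algebraMap A _ x) = g x := fun x => by
    show K₀ (MvPolynomial.C x) = g x
    simp [K₀]
  let Gₐ : SGA1t.kummer A a n →ₐ[R] C :=
    { G with
      commutes' := fun r => by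
        show G (algebraMap R (SGA1t.kummer A a n) r) = algebraMap R C r
        rw [IsScalarTower.algebraMap_apply R A (SGA1t.kummer A a n), hGA,
          IsScalarTower.algebraMap_apply R (MvPolynomial σ R) A, g.commutes]
        exact ψ.commutes r }
  refine ⟨Gₐ, AlgHom.ext fun k => ?_⟩
  obtain ⟨p, rfl⟩ := Ideal.Quotient.mk_surjective k
  have key : (Ideal.Quotient.mk I).comp K₀ = h.toRingHom.comp (Ideal.Quotient.mk _) := by
    refine MvPolynomial.ringHom_ext (fun x => ?_) fun i => ?_
    · show Ideal.Quotient.mk I (K₀ (MvPolynomial.C x)) = h (algebraMap A _ x)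
      simp only [K₀, MvPolynomial.eval₂Hom_C]
      exact AlgHom.congr_fun hg x
    · show Ideal.Quotient.mk I (K₀ (MvPolynomial.X i)) = h (U i)
      simp only [K₀, MvPolynomial.eval₂Hom_X']
      exact hc i
  exact RingHom.congr_fun key p

theorem stalkMap_congr_formallySmooth {P Q : Scheme.{u}} {g g' : P ⟶ Q} (h : g = g') {x : P} :
    (g.stalkMap x).hom.FormallySmooth = (g'.stalkMap x).hom.FormallySmooth := by
  subst h; rfl

theorem res_eq {X : Scheme.{u}} {W0 : X.Opens} (hW0 : IsAffineOpen W0) (W : X.Opens)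
    (j : Spec Γ(X, W0) ⟶ W) (hj : j ≫ W.ι = hW0.fromSpec) (y : Γ(X, ⊤)) :
    (Scheme.ΓSpecIso Γ(X, W0)).hom (j.appTop (W.topIso.inv (X.presheaf.map (homOfLE le_top).op y))) =
      X.presheaf.map (homOfLE (le_top : W0 ≤ ⊤)).op y := by
  have h1 : W.topIso.inv (X.presheaf.map (homOfLE le_top).op y) = W.ι.appTop y := by
    rw [Scheme.Opens.ι_appTop, ← CommRingCat.comp_apply, Scheme.Opens.topIso_inv]
    erw [← Functor.map_comp]
    rfl
  have h2 : j.appTop (W.ι.appTop y) = hW0.fromSpec.appTop y := by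
    rw [← CommRingCat.comp_apply, ← Scheme.Hom.comp_appTop, hj]
  rw [h1, h2]
  show (Scheme.ΓSpecIso Γ(X, W0)).hom (hW0.fromSpec.app ⊤ y) = _
  rw [hW0.fromSpec_app_of_le ⊤ le_top]
  simp only [CommRingCat.comp_apply, Category.assoc, Scheme.Hom.appTop]
  erw [CategoryTheory.Functor.map_id]
  show (Scheme.ΓSpecIso Γ(X, W0)).hom ((Scheme.ΓSpecIso Γ(X, W0)).inv _) = _
  exact CategoryTheory.Iso.inv_hom_id_apply (Scheme.ΓSpecIso Γ(X, W0)) _

set_option maxHeartbeats 1000000 in
theorem chart_etale {X S : Scheme.{u}} (f : X ⟶ S) {S0 : S.Opens} (hS : IsAffineOpen S0)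
    {W0 : X.Opens} (hW0 : IsAffineOpen W0) (hWS : W0 ≤ f ⁻¹ᵁ S0) (W : X.Opens) {σ : Type u}
    (v : σ → Γ(W.toScheme, ⊤)) (j : Spec Γ(X, W0) ⟶ W) (hj : j ≫ W.ι = hW0.fromSpec)
    (hv : Etale (AffineSpace.homOfVector (W.ι ≫ f) v)) :
    (MvPolynomial.eval₂Hom (f.appLE S0 W0 hWS).hom
      fun s => (Scheme.ΓSpecIso Γ(X, W0)).hom (j.appTop (v s))).Etale := by
  haveI : IsOpenImmersion (j ≫ W.ι) := by rw [hj]; infer_instance
  haveI : IsOpenImmersion j := IsOpenImmersion.of_comp j W.ι
  let θ : CommRingCat.of (MvPolynomial σ Γ(S, S0)) ⟶ Γ(X, W0) :=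
    CommRingCat.ofHom (MvPolynomial.eval₂Hom (f.appLE S0 W0 hWS).hom
      fun s => (Scheme.ΓSpecIso Γ(X, W0)).hom (j.appTop (v s)))
  let em : Spec (CommRingCat.of (MvPolynomial σ Γ(S, S0))) ⟶ AffineSpace σ S :=
    (AffineSpace.SpecIso σ Γ(S, S0)).inv ≫ AffineSpace.map σ hS.fromSpec
  haveI : IsOpenImmersion (AffineSpace.map σ hS.fromSpec) :=
    MorphismProperty.of_isPullback (P := @IsOpenImmersion) (AffineSpace.isPullback_map (n := σ) hS.fromSpec).flip inferInstance
  have hθ : Spec.map θ ≫ em = j ≫ AffineSpace.homOfVector (W.ι ≫ f) v := by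
    refine AffineSpace.hom_ext ?_ fun s => ?_
    · simp only [em, Category.assoc, AffineSpace.map_over]
      rw [AffineSpace.homOfVector_over, reassoc_of% hj, ← hS.SpecMap_appLE_fromSpec f hW0 hWS,
        reassoc_of% (AffineSpace.SpecIso_inv_over (n := σ) Γ(S, S0)), ← Spec.map_comp_assoc]
      refine congrArg (fun z => Spec.map z ≫ hS.fromSpec) ?_
      ext r
      exact MvPolynomial.eval₂Hom_C (f.appLE S0 W0 hWS).hom _ r
    · simp only [em, Scheme.Hom.comp_appTop, CommRingCat.comp_apply, AffineSpace.map_appTop_coord]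
      rw [AffineSpace.SpecIso_inv_appTop_coord, AffineSpace.homOfVector_appTop_coord]
      have h := congr($(Scheme.ΓSpecIso_inv_naturality θ) (MvPolynomial.X s))
      simp only [CommRingCat.comp_apply] at h
      have h2 : θ (MvPolynomial.X s) = (Scheme.ΓSpecIso Γ(X, W0)).hom (j.appTop (v s)) :=
        MvPolynomial.eval₂Hom_X' _ _ s
      rw [CommRingCat.comp_apply, h2] at h
      exact h.symm.trans (CategoryTheory.Iso.hom_inv_id_apply (Scheme.ΓSpecIso Γ(X, W0)) _)
  haveI : Etale (Spec.map θ ≫ em) := by rw [hθ]; infer_instance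
  haveI : Etale (Spec.map θ) := MorphismProperty.of_postcomp (W := @Etale) (W' := @Etale) (Spec.map θ) em
    inferInstance inferInstance
  exact (HasRingHomProperty.Spec_iff (P := @Etale)).1 (inferInstance : Etale (Spec.map θ))

set_option maxHeartbeats 1000000 in
theorem main {X S : Scheme.{u}} (f : X ⟶ S) {r : ℕ} (φ : Fin r → Γ(X, ⊤))
    (hD : SGA1t.IsRelSNC f φ) (x : X) (hx : Nonempty (SGA1t.vanishingAt φ x))
    (n : SGA1t.vanishingAt φ x → ℕ)
    (x' : Spec (CommRingCat.of (SGA1t.kummer (X.presheaf.stalk x)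
      (fun i : SGA1t.vanishingAt φ x => (X.presheaf.germ ⊤ x trivial).hom (φ i.1)) n))) :
    ((Spec.map (CommRingCat.ofHom (algebraMap (X.presheaf.stalk x) (SGA1t.kummer (X.presheaf.stalk x)
      (fun i : SGA1t.vanishingAt φ x => (X.presheaf.germ ⊤ x trivial).hom (φ i.1)) n))) ≫
        X.fromSpecStalk x ≫ f).stalkMap x').hom.FormallySmooth := by
  obtain ⟨W, hxW, d, v, e, he, hv, hev⟩ := hD x hx
  obtain ⟨S0, hS, hxS, -⟩ := exists_isAffineOpen_mem_and_subset (x := f x) (U := ⊤) trivial
  obtain ⟨W0, hW0, hxW0, hle⟩ := exists_isAffineOpen_mem_and_subset (x := x) (U := W ⊓ f ⁻¹ᵁ S0) ⟨hxW, hxS⟩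
  have hWW : W0 ≤ W := hle.trans inf_le_left
  have hWS : W0 ≤ f ⁻¹ᵁ S0 := hle.trans inf_le_right
  let R := Γ(S, S0)
  let B := Γ(X, W0)
  let σ := ULift.{u} (Fin d)
  have hjr : Set.range hW0.fromSpec.base ⊆ Set.range W.ι.base := by
    rw [Scheme.Opens.range_ι, hW0.range_fromSpec]; exact hWW
  let j : Spec B ⟶ W := IsOpenImmersion.lift W.ι hW0.fromSpec hjr
  have hj : j ≫ W.ι = hW0.fromSpec := IsOpenImmersion.lift_fac _ _ _
  haveI : IsOpenImmersion (j ≫ W.ι) := by rw [hj]; infer_instance
  haveI : IsOpenImmersion j := IsOpenImmersion.of_comp j W.ι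
  let w : σ → B := fun s => (Scheme.ΓSpecIso B).hom (j.appTop (v s))
  let θ : CommRingCat.of (MvPolynomial σ R) ⟶ B :=
    CommRingCat.ofHom (MvPolynomial.eval₂Hom (f.appLE S0 W0 hWS).hom w)
  have hθet : θ.hom.Etale := chart_etale f hS hW0 hWS W v j hj hv
  let germ : B →+* X.presheaf.stalk x := (X.presheaf.germ W0 x hxW0).hom
  letI : Algebra (MvPolynomial σ R) B := θ.hom.toAlgebra
  letI : Algebra B (X.presheaf.stalk x) := germ.toAlgebra
  letI : Algebra (MvPolynomial σ R) (X.presheaf.stalk x) := (germ.comp θ.hom).toAlgebra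
  letI : Algebra R (X.presheaf.stalk x) := (germ.comp (f.appLE S0 W0 hWS).hom).toAlgebra
  haveI : IsScalarTower (MvPolynomial σ R) B (X.presheaf.stalk x) := .of_algebraMap_eq fun _ => rfl
  haveI : IsScalarTower R (MvPolynomial σ R) (X.presheaf.stalk x) := .of_algebraMap_eq fun r => by
    exact congrArg germ (MvPolynomial.eval₂Hom_C (f.appLE S0 W0 hWS).hom w r).symm
  haveI : Algebra.Etale (MvPolynomial σ R) B := hθet
  haveI : IsLocalization.AtPrime (X.presheaf.stalk x) (hW0.primeIdealOf ⟨x, hxW0⟩).asIdeal :=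
    hW0.isLocalization_stalk ⟨x, hxW0⟩
  haveI : Algebra.FormallyEtale B (X.presheaf.stalk x) :=
    Algebra.FormallyEtale.of_isLocalization (hW0.primeIdealOf ⟨x, hxW0⟩).asIdeal.primeCompl
  haveI : Algebra.FormallyEtale (MvPolynomial σ R) (X.presheaf.stalk x) :=
    Algebra.FormallyEtale.comp (MvPolynomial σ R) B (X.presheaf.stalk x)
  let a := fun i : SGA1t.vanishingAt φ x => (X.presheaf.germ ⊤ x trivial).hom (φ i.1)
  have ha : ∀ i, a i = algebraMap (MvPolynomial σ R) (X.presheaf.stalk x) (MvPolynomial.X (ULift.up (e i))) := by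
    intro i
    have h1 : w (ULift.up (e i)) = (X.presheaf.map (homOfLE (le_top : W0 ≤ ⊤)).op) (φ i.1) := by
      show (Scheme.ΓSpecIso B).hom (j.appTop (v (ULift.up (e i)))) = _
      rw [hev]
      exact res_eq hW0 W j hj (φ i.1)
    show a i = germ (θ.hom (MvPolynomial.X (ULift.up (e i))))
    show a i = germ ((MvPolynomial.eval₂Hom (f.appLE S0 W0 hWS).hom w) (MvPolynomial.X (ULift.up (e i))))
    erw [MvPolynomial.eval₂Hom_X', h1]
    exact (X.presheaf.germ_res_apply (homOfLE le_top) x hxW0 (φ i.1)).symm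
  let K := SGA1t.kummer (X.presheaf.stalk x) a n
  haveI : Algebra.FormallySmooth R K :=
    formallySmooth_kummer (R := R) (σ := σ) (fun i => ULift.up (e i)) (ULift.up_injective.comp he) a ha n
  let ρ : R ⟶ CommRingCat.of K := CommRingCat.ofHom (algebraMap R K)
  have hfact : Spec.map (CommRingCat.ofHom (algebraMap (X.presheaf.stalk x) K)) ≫ X.fromSpecStalk x ≫ f =
      Spec.map ρ ≫ hS.fromSpec := by
    rw [← hW0.fromSpecStalk_eq_fromSpecStalk hxW0, IsAffineOpen.fromSpecStalk, Category.assoc,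
      ← hS.SpecMap_appLE_fromSpec f hW0 hWS, ← Category.assoc (Spec.map (X.presheaf.germ W0 x hxW0)),
      ← Spec.map_comp, ← Category.assoc, ← Spec.map_comp]
    rfl
  have key : ((Spec.map ρ).stalkMap x').hom.FormallySmooth := by
    refine (RingHom.FormallySmooth.respectsIso.arrow_mk_iso_iff (Scheme.arrowStalkMapSpecIso ρ x')).2 ?_
    let p := x'.asIdeal.comap (algebraMap R K)
    haveI : Algebra.FormallySmooth R (Localization.AtPrime x'.asIdeal) := inferInstance
    letI := (Localization.localRingHom p x'.asIdeal (algebraMap R K) rfl).toAlgebra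
    haveI : IsScalarTower R (Localization.AtPrime p) (Localization.AtPrime x'.asIdeal) :=
      .of_algebraMap_eq fun r => by
        rw [RingHom.algebraMap_toAlgebra, Localization.localRingHom_to_map, ← IsScalarTower.algebraMap_apply]
    haveI : Algebra.FormallyUnramified R (Localization.AtPrime p) :=
      Algebra.FormallyUnramified.of_isLocalization p.primeCompl
    exact RingHom.formallySmooth_algebraMap.2
      (Algebra.FormallySmooth.of_restrictScalars R (Localization.AtPrime p) (Localization.AtPrime x'.asIdeal))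
  show ((Spec.map (CommRingCat.ofHom (algebraMap (X.presheaf.stalk x) K)) ≫ X.fromSpecStalk x ≫ f).stalkMap x').hom.FormallySmooth
  rw [stalkMap_congr_formallySmooth hfact, Scheme.Hom.stalkMap_comp, CommRingCat.hom_comp]
  exact (RingHom.FormallySmooth.respectsIso.cancel_left_isIso (hS.fromSpec.stalkMap _) ((Spec.map ρ).stalkMap x')).2 key

end Groth.Agent.H9Kummer.Smooth
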