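import Groth.Agent.H9Kummer.Alg
import Groth.Agent.H9Kummer.Smooth
import Mathlib.RingTheory.Etale.Kaehler
import Mathlib.RingTheory.Kaehler.Polynomial
import Mathlib.RingTheory.MvPolynomial.Localization
import Mathlib.RingTheory.Smooth.Fiber

/-!
# Kummer algebras of relative coordinates: the complement of the divisor is connected
-/

set_option autoImplicit false
set_option linter.style.haveILetI false
set_option backward.isDefEq.respectTransparency false
set_option backward.isDefEq.respectTransparency.types false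

universe u

open IsLocalRing TensorProduct

noncomputable section

namespace Groth.Agent.H9Kummer.Conn

/-- A coordinate is not in the ideal extended from a proper ideal of the base. -/
theorem coord_notMem {R A : Type u} [CommRing R] [CommRing A] {σ : Type u} [Algebra R A]
    [Algebra (MvPolynomial σ R) A] [IsScalarTower R (MvPolynomial σ R) A]
    [Algebra.FormallyEtale (MvPolynomial σ R) A] (p : Ideal R) (hp : p.map (algebraMap R A) ≠ ⊤) (s : σ) :
    algebraMap (MvPolynomial σ R) A (MvPolynomial.X s) ∉ p.map (algebraMap R A) := by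
  classical
  intro hmem
  let e := KaehlerDifferential.tensorKaehlerEquivOfFormallyEtale R (MvPolynomial σ R) A
  let φ : TensorProduct (MvPolynomial σ R) A (Ω[MvPolynomial σ R⁄R]) →ₗ[A] A :=
    LinearMap.liftBaseChange A ((Algebra.linearMap (MvPolynomial σ R) A).comp
      ((KaehlerDifferential.mvPolynomialBasis R σ).coord s))
  let D : Derivation R A A := (φ.comp e.symm.toLinearMap).compDer (KaehlerDifferential.D R A)
  have hs : D (algebraMap (MvPolynomial σ R) A (MvPolynomial.X s)) = 1 := by
    have h1 : e ((1 : A) ⊗ₜ[MvPolynomial σ R] KaehlerDifferential.D R (MvPolynomial σ R) (MvPolynomial.X s)) =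
        KaehlerDifferential.D R A (algebraMap (MvPolynomial σ R) A (MvPolynomial.X s)) := by
      simp [e]
    show φ (e.symm (KaehlerDifferential.D R A _)) = 1
    rw [← h1, LinearEquiv.symm_apply_apply]
    simp only [φ, LinearMap.liftBaseChange_tmul, one_smul, LinearMap.comp_apply]
    rw [← KaehlerDifferential.mvPolynomialBasis_apply, Module.Basis.coord_apply, Module.Basis.repr_self]
    simp
  have hsub : ∀ x ∈ p.map (algebraMap R A), D x ∈ p.map (algebraMap R A) := by
    intro x hx
    induction hx using Submodule.span_induction with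
    | mem y hy => obtain ⟨r, -, rfl⟩ := hy; rw [D.map_algebraMap]; exact zero_mem _
    | zero => simp
    | add x y _ _ hx hy => rw [map_add]; exact add_mem hx hy
    | smul c x hxI hx =>
      rw [smul_eq_mul, D.leibniz, smul_eq_mul, smul_eq_mul]
      exact add_mem (Ideal.mul_mem_left _ _ hx) (Ideal.mul_mem_right _ _ hxI)
  exact hp ((Ideal.eq_top_iff_one _).2 (hs ▸ hsub _ hmem))

variable {A : Type u} [CommRing A] {ι : Type} [Finite ι] (a : ι → A) (n : ι → ℕ)

set_option maxHeartbeats 1000000 in
/-- `A` is an `A`-linear direct summand of the Kummer algebra. -/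
theorem exists_retraction (hn : ∀ i, 1 ≤ n i) :
    ∃ Λ : SGA1t.kummer A a n →ₗ[A] A, Λ 1 = 1 := by
  classical
  haveI := Fintype.ofFinite ι
  let f : (ι →₀ ℕ) → A := fun m => ∏ i, if n i ∣ m i then a i ^ (m i / n i) else 0
  let L : MvPolynomial ι A →ₗ[A] A := (MvPolynomial.basisMonomials ι A).constr A f
  have hL : ∀ m c, L (MvPolynomial.monomial m c) = c * f m := fun m c => by
    rw [show MvPolynomial.monomial m c = c • MvPolynomial.monomial m (1 : A) from by rw [MvPolynomial.smul_monomial, smul_eq_mul, mul_one], map_smul, smul_eq_mul]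
    congr 1
    exact (MvPolynomial.basisMonomials ι A).constr_basis A f m
  have hker : ∀ x ∈ Ideal.span (Set.range fun i => (MvPolynomial.X i : MvPolynomial ι A) ^ n i - MvPolynomial.C (a i)),
      ∀ q : MvPolynomial ι A, L (q * x) = 0 := by
    intro x hx
    induction hx using Submodule.span_induction with
    | mem y hy =>
      obtain ⟨i, rfl⟩ := hy
      intro q
      induction q using MvPolynomial.induction_on' with
      | monomial m c =>
        rw [mul_sub, map_sub, MvPolynomial.X_pow_eq_monomial, MvPolynomial.monomial_mul, mul_comm _ (MvPolynomial.C (a i)),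
          MvPolynomial.C_mul_monomial, hL, hL, mul_one, sub_eq_zero]
        have : f (m + Finsupp.single i (n i)) = a i * f m := by
          simp only [f]
          rw [← Finset.mul_prod_erase _ _ (Finset.mem_univ i), ← Finset.mul_prod_erase _ _ (Finset.mem_univ i), ← mul_assoc]
          congr 1
          · simp only [Finsupp.add_apply, Finsupp.single_eq_same]
            have hpos : 0 < n i := hn i
            by_cases hd : n i ∣ m i
            · rw [if_pos hd, if_pos (Nat.dvd_add hd dvd_rfl), Nat.add_div_right _ hpos, pow_succ']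
            · rw [if_neg hd, if_neg (fun h => hd ((Nat.dvd_add_left dvd_rfl).1 h)), mul_zero]
          · refine Finset.prod_congr rfl fun j hj => ?_
            rw [Finsupp.add_apply, Finsupp.single_eq_of_ne (Finset.ne_of_mem_erase hj), add_zero]
        rw [this]; ring
      | add p q hp hq => rw [add_mul, map_add, hp, hq, add_zero]
    | zero => intro q; rw [mul_zero, map_zero]
    | add x y _ _ hx hy => intro q; rw [mul_add, map_add, hx, hy, add_zero]
    | smul c x _ hx => intro q; rw [smul_eq_mul, ← mul_assoc]; exact hx _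
  have hwd : ∀ x y : MvPolynomial ι A, Ideal.Quotient.mk
      (Ideal.span (Set.range fun i => (MvPolynomial.X i : MvPolynomial ι A) ^ n i - MvPolynomial.C (a i))) x =
      Ideal.Quotient.mk _ y → L x = L y := fun x y hxy => by
    rw [← sub_eq_zero, ← map_sub]
    simpa using hker _ (Ideal.Quotient.eq.1 hxy) 1
  let s : SGA1t.kummer A a n → MvPolynomial ι A := Function.surjInv Ideal.Quotient.mk_surjective
  have hs : ∀ k, Ideal.Quotient.mk _ (s k) = k := Function.surjInv_eq _
  refine ⟨{ toFun := fun k => L (s k), map_add' := fun x y => ?_, map_smul' := fun c x => ?_ }, ?_⟩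
  · rw [← map_add]
    exact hwd _ _ (by rw [map_add, hs, hs, hs])
  · rw [RingHom.id_apply, ← map_smul]
    refine hwd _ _ ?_
    rw [hs]
    show c • x = Ideal.Quotient.mkₐ A _ (c • s x)
    rw [map_smul]
    exact congrArg (c • ·) (hs x).symm
  · show L (s 1) = 1
    rw [hwd (s 1) 1 (by rw [hs, map_one]), MvPolynomial.one_def, hL, one_mul]
    simp [f]

variable {A₀ : Type u} [CommRing A₀] [Algebra A₀ A]

/-- The map between Kummer algebras induced by a ring map. -/
def map (a₀ : ι → A₀) (h : ∀ i, a i = algebraMap A₀ A (a₀ i)) : SGA1t.kummer A₀ a₀ n →+* SGA1t.kummer A a n :=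
  Ideal.Quotient.lift _ ((Ideal.Quotient.mk _).comp (MvPolynomial.map (algebraMap A₀ A))) (by
    intro x hx
    refine (Ideal.span_le.2 ?_ hx : x ∈ RingHom.ker ((Ideal.Quotient.mk (Ideal.span (Set.range fun i =>
      (MvPolynomial.X i : MvPolynomial ι A) ^ n i - MvPolynomial.C (a i)))).comp (MvPolynomial.map (algebraMap A₀ A))))
    rintro _ ⟨i, rfl⟩
    rw [SetLike.mem_coe, RingHom.mem_ker, RingHom.comp_apply, map_sub, map_pow, MvPolynomial.map_X, MvPolynomial.map_C, ← h]
    exact Ideal.Quotient.eq_zero_iff_mem.2 (Ideal.subset_span ⟨i, rfl⟩))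

theorem map_algebraMap (a₀ : ι → A₀) (h : ∀ i, a i = algebraMap A₀ A (a₀ i)) (x : A₀) :
    map a n a₀ h (algebraMap A₀ (SGA1t.kummer A₀ a₀ n) x) = algebraMap A (SGA1t.kummer A a n) (algebraMap A₀ A x) := by
  show map a n a₀ h (Ideal.Quotient.mk _ (MvPolynomial.C x)) = Ideal.Quotient.mk _ (MvPolynomial.C (algebraMap A₀ A x))
  rw [map, Ideal.Quotient.lift_mk, RingHom.comp_apply, MvPolynomial.map_C]

theorem isLocalization_map (a₀ : ι → A₀) (h : ∀ i, a i = algebraMap A₀ A (a₀ i)) (M : Submonoid A₀)
    [IsLocalization M A] :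
    letI := (map a n a₀ h).toAlgebra
    IsLocalization (M.map (algebraMap A₀ (SGA1t.kummer A₀ a₀ n))) (SGA1t.kummer A a n) := by
  letI := (map a n a₀ h).toAlgebra
  letI : Algebra (MvPolynomial ι A₀) (MvPolynomial ι A) := (MvPolynomial.map (algebraMap A₀ A)).toAlgebra
  haveI : IsLocalization (M.map (MvPolynomial.C (σ := ι))) (MvPolynomial ι A) := MvPolynomial.isLocalization (σ := ι) M A
  have := IsLocalization.of_surjective (M.map (MvPolynomial.C (σ := ι))) (MvPolynomial ι A)
    (R' := SGA1t.kummer A₀ a₀ n) (S' := SGA1t.kummer A a n)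
    (Ideal.Quotient.mk _) Ideal.Quotient.mk_surjective (Ideal.Quotient.mk _) Ideal.Quotient.mk_surjective rfl
    (by
      rw [Ideal.mk_ker, Ideal.mk_ker, Ideal.map_span, ← Set.range_comp]
      refine le_of_eq (congrArg Ideal.span (congrArg Set.range (funext fun i => ?_)))
      show _ = MvPolynomial.map (algebraMap A₀ A) _
      rw [map_sub, map_pow, MvPolynomial.map_X, MvPolynomial.map_C, h])
  refine (congrArg (fun N => IsLocalization N (SGA1t.kummer A a n)) ?_).mp this
  exact Submonoid.map_map M _ _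

theorem connected_aux {R K₀ K : Type u} [CommRing R] [CommRing K₀] [CommRing K] [IsLocalRing K]
    [Algebra R K₀] [Algebra R K] [Algebra K₀ K] [Algebra.FinitePresentation R K₀]
    [Algebra.FormallySmooth R K] (M : Submonoid K₀) [IsLocalization M K]
    (hT : ∀ r : R, algebraMap R K r = algebraMap K₀ K (algebraMap R K₀ r)) (p : Ideal R) [p.IsPrime] (hM : ∀ r ∉ p, algebraMap R K₀ r ∈ M)
    (hpK : ∀ r ∈ p, algebraMap R K r ∈ maximalIdeal K) (c : K) (hc : c ∉ p.map (algebraMap R K))
    (L : Type u) [CommRing L] [Algebra K L] [IsLocalization.Away c L] :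
    Nontrivial L ∧ ∀ x : L, IsIdempotentElem x → x = 0 ∨ x = 1 := by
  haveI : IsScalarTower R K₀ K := .of_algebraMap_eq hT
  let Rp := Localization.AtPrime p
  let S₀ := Localization (Algebra.algebraMapSubmonoid K₀ p.primeCompl)
  haveI : Algebra.IsPushout R Rp K₀ S₀ := .symm <| Algebra.isPushout_of_isLocalization p.primeCompl _ _ _
  haveI : Algebra.FinitePresentation Rp S₀ := .equiv (Algebra.IsPushout.equiv R Rp K₀ S₀)
  have hle : Algebra.algebraMapSubmonoid K₀ p.primeCompl ≤ M := by
    rintro _ ⟨r, hr, rfl⟩; exact hM r hr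
  letI : Algebra S₀ K := IsLocalization.localizationAlgebraOfSubmonoidLe S₀ K _ _ hle
  haveI : IsScalarTower K₀ S₀ K := IsLocalization.localization_isScalarTower_of_submonoid_le S₀ K _ _ hle
  haveI : IsScalarTower R S₀ K := .to₁₃₄ _ K₀ _ _
  letI : Algebra Rp K := ((algebraMap S₀ K).comp (algebraMap Rp S₀)).toAlgebra
  haveI : IsScalarTower Rp S₀ K := .of_algebraMap_eq fun _ => rfl
  haveI : IsScalarTower R Rp K := .of_algebraMap_eq fun r => by
    show _ = algebraMap S₀ _ (algebraMap Rp S₀ (algebraMap R Rp r))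
    rw [← IsScalarTower.algebraMap_apply R Rp S₀, ← IsScalarTower.algebraMap_apply R S₀ K]
  haveI : Algebra.FormallyUnramified R Rp := Algebra.FormallyUnramified.of_isLocalization p.primeCompl
  haveI : Algebra.FormallySmooth Rp K := Algebra.FormallySmooth.of_restrictScalars R Rp _
  haveI : IsLocalization (M.map (algebraMap K₀ S₀)) K :=
    IsLocalization.isLocalization_of_submonoid_le S₀ K (Algebra.algebraMapSubmonoid K₀ p.primeCompl) M hle
  let q' : Ideal S₀ := (maximalIdeal K).comap (algebraMap S₀ K)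
  haveI : IsLocalization.AtPrime K q' :=
    IsLocalization.of_le (M.map (algebraMap K₀ S₀)) q'.primeCompl
      (fun y hy hq => (mem_maximalIdeal _).1 hq (IsLocalization.map_units K (⟨y, hy⟩ : M.map (algebraMap K₀ S₀))))
      (fun y hy => not_not.1 fun hnu => hy ((mem_maximalIdeal _).2 hnu))
  let ε : Localization.AtPrime q' ≃ₐ[S₀] K := IsLocalization.algEquiv q'.primeCompl _ _
  haveI : Algebra.IsSmoothAt Rp q' := (Algebra.FormallySmooth.iff_of_equiv (ε.restrictScalars Rp)).2 inferInstance
  have hq : (maximalIdeal Rp).map (algebraMap Rp S₀) ≤ q' := by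
    rw [← Localization.AtPrime.map_eq_maximalIdeal, Ideal.map_map, Ideal.map_le_iff_le_comap]
    intro r hr
    show algebraMap S₀ K (algebraMap Rp S₀ (algebraMap R Rp r)) ∈ maximalIdeal _
    rw [← IsScalarTower.algebraMap_apply, ← IsScalarTower.algebraMap_apply]
    exact hpK r hr
  have hc' : ε.symm c ∉ (maximalIdeal Rp).map (algebraMap Rp (Localization.AtPrime q')) := fun hmem => hc (by
    have := Ideal.mem_map_of_mem (ε.restrictScalars Rp).toAlgHom.toRingHom hmem
    rw [Ideal.map_map, ← Localization.AtPrime.map_eq_maximalIdeal, Ideal.map_map] at this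
    have e2 : ((ε.restrictScalars Rp).toAlgHom.toRingHom.comp (algebraMap Rp (Localization.AtPrime q'))).comp (algebraMap R Rp) =
        algebraMap R K := RingHom.ext fun r => by
      show ε.restrictScalars Rp (algebraMap Rp _ (algebraMap R Rp r)) = _
      rw [AlgEquiv.commutes, ← IsScalarTower.algebraMap_apply]
    rw [e2] at this
    simpa using this)
  letI : Algebra (Localization.AtPrime q') L := ((algebraMap K L).comp ε.toAlgHom.toRingHom).toAlgebra
  haveI : IsLocalization.Away (ε.symm c) L := by
    have := IsLocalization.isLocalization_of_base_ringEquiv (Submonoid.powers c) L ε.symm.toRingEquiv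
    rwa [Submonoid.map_powers] at this
  exact ConnAway.main (R := Rp) q' hq (ε.symm c) hc' L

theorem prime_map_fibre {R K₀ K : Type u} [CommRing R] [CommRing K₀] [CommRing K] [IsLocalRing K]
    [Algebra R K₀] [Algebra R K] [Algebra K₀ K] [Algebra.FinitePresentation R K₀]
    [Algebra.FormallySmooth R K] (M : Submonoid K₀) [IsLocalization M K]
    (hT : ∀ r : R, algebraMap R K r = algebraMap K₀ K (algebraMap R K₀ r)) (p : Ideal R) [p.IsPrime] (hM : ∀ r ∉ p, algebraMap R K₀ r ∈ M)
    (hpK : ∀ r ∈ p, algebraMap R K r ∈ maximalIdeal K) : (p.map (algebraMap R K)).IsPrime := by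
  haveI : IsScalarTower R K₀ K := .of_algebraMap_eq hT
  let Rp := Localization.AtPrime p
  let S₀ := Localization (Algebra.algebraMapSubmonoid K₀ p.primeCompl)
  haveI : Algebra.IsPushout R Rp K₀ S₀ := .symm <| Algebra.isPushout_of_isLocalization p.primeCompl _ _ _
  haveI : Algebra.FinitePresentation Rp S₀ := .equiv (Algebra.IsPushout.equiv R Rp K₀ S₀)
  have hle : Algebra.algebraMapSubmonoid K₀ p.primeCompl ≤ M := by
    rintro _ ⟨r, hr, rfl⟩; exact hM r hr
  letI : Algebra S₀ K := IsLocalization.localizationAlgebraOfSubmonoidLe S₀ K _ _ hle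
  haveI : IsScalarTower K₀ S₀ K := IsLocalization.localization_isScalarTower_of_submonoid_le S₀ K _ _ hle
  haveI : IsScalarTower R S₀ K := .to₁₃₄ _ K₀ _ _
  letI : Algebra Rp K := ((algebraMap S₀ K).comp (algebraMap Rp S₀)).toAlgebra
  haveI : IsScalarTower Rp S₀ K := .of_algebraMap_eq fun _ => rfl
  haveI : IsScalarTower R Rp K := .of_algebraMap_eq fun r => by
    show _ = algebraMap S₀ _ (algebraMap Rp S₀ (algebraMap R Rp r))
    rw [← IsScalarTower.algebraMap_apply R Rp S₀, ← IsScalarTower.algebraMap_apply R S₀ K]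
  haveI : Algebra.FormallyUnramified R Rp := Algebra.FormallyUnramified.of_isLocalization p.primeCompl
  haveI : Algebra.FormallySmooth Rp K := Algebra.FormallySmooth.of_restrictScalars R Rp _
  haveI : IsLocalization (M.map (algebraMap K₀ S₀)) K :=
    IsLocalization.isLocalization_of_submonoid_le S₀ K (Algebra.algebraMapSubmonoid K₀ p.primeCompl) M hle
  let q' : Ideal S₀ := (maximalIdeal K).comap (algebraMap S₀ K)
  haveI : IsLocalization.AtPrime K q' :=
    IsLocalization.of_le (M.map (algebraMap K₀ S₀)) q'.primeCompl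
      (fun y hy hq => (mem_maximalIdeal _).1 hq (IsLocalization.map_units K (⟨y, hy⟩ : M.map (algebraMap K₀ S₀))))
      (fun y hy => not_not.1 fun hnu => hy ((mem_maximalIdeal _).2 hnu))
  let ε : Localization.AtPrime q' ≃ₐ[S₀] K := IsLocalization.algEquiv q'.primeCompl _ _
  haveI : Algebra.IsSmoothAt Rp q' := (Algebra.FormallySmooth.iff_of_equiv (ε.restrictScalars Rp)).2 inferInstance
  have hq : (maximalIdeal Rp).map (algebraMap Rp S₀) ≤ q' := by
    rw [← Localization.AtPrime.map_eq_maximalIdeal, Ideal.map_map, Ideal.map_le_iff_le_comap]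
    intro r hr
    show algebraMap S₀ K (algebraMap Rp S₀ (algebraMap R Rp r)) ∈ maximalIdeal _
    rw [← IsScalarTower.algebraMap_apply, ← IsScalarTower.algebraMap_apply]
    exact hpK r hr
  haveI := ConnAway.isDomain_fibre (R := Rp) q' hq
  have hprime := (Ideal.Quotient.isDomain_iff_prime _).1
    (inferInstance : IsDomain (Localization.AtPrime q' ⧸ (maximalIdeal Rp).map (algebraMap Rp (Localization.AtPrime q'))))
  have e2 : ((ε.restrictScalars Rp).toAlgHom.toRingHom.comp (algebraMap Rp (Localization.AtPrime q'))).comp (algebraMap R Rp) =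
      algebraMap R K := RingHom.ext fun r => by
    show ε.restrictScalars Rp (algebraMap Rp _ (algebraMap R Rp r)) = _
    rw [AlgEquiv.commutes, ← IsScalarTower.algebraMap_apply]
  rw [← e2, ← Ideal.map_map, Localization.AtPrime.map_eq_maximalIdeal, ← Ideal.map_map]
  haveI := hprime
  exact Ideal.map_isPrime_of_equiv (ε.restrictScalars Rp).toRingEquiv

set_option maxHeartbeats 1000000 in
theorem connected_away_of_formallyEtale {R : Type u} [CommRing R] {σ : Type u} [Finite σ] [Algebra R A₀]
    [Algebra (MvPolynomial σ R) A₀] [IsScalarTower R (MvPolynomial σ R) A₀]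
    [Algebra.FinitePresentation R A₀] (P₀ : Ideal A₀) [P₀.IsPrime] [IsLocalization.AtPrime A P₀]
    (hfe : letI := ((algebraMap A₀ A).comp (algebraMap (MvPolynomial σ R) A₀)).toAlgebra
      Algebra.FormallyEtale (MvPolynomial σ R) A)
    (e : ι → σ) (he : Function.Injective e) (a₀ : ι → A₀)
    (ha₀ : ∀ i, a₀ i = algebraMap (MvPolynomial σ R) A₀ (MvPolynomial.X (e i))) (hP : ∀ i, a₀ i ∈ P₀)
    (h : ∀ i, a i = algebraMap A₀ A (a₀ i)) (hn : ∀ i, 1 ≤ n i) [Fintype ι]
    (L : Type u) [CommRing L] [Algebra (SGA1t.kummer A a n) L]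
    [IsLocalization.Away (algebraMap A (SGA1t.kummer A a n) (∏ i, a i)) L] :
    Nontrivial L ∧ ∀ x : L, IsIdempotentElem x → x = 0 ∨ x = 1 := by
  haveI : IsLocalRing A := IsLocalization.AtPrime.isLocalRing A P₀
  have ham : ∀ i, a i ∈ maximalIdeal A := fun i => by
    rw [h]; exact (IsLocalization.AtPrime.to_map_mem_maximal_iff A P₀ _).2 (hP i)
  haveI : IsLocalRing (SGA1t.kummer A a n) := Alg.isLocalRing a n ham hn
  haveI hKfin := Alg.finite a n hn
  -- algebra structures over `R`
  letI : Algebra R A := ((algebraMap A₀ A).comp (algebraMap R A₀)).toAlgebra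
  haveI : IsScalarTower R A₀ A := .of_algebraMap_eq fun _ => rfl
  letI : Algebra (MvPolynomial σ R) A := ((algebraMap A₀ A).comp (algebraMap (MvPolynomial σ R) A₀)).toAlgebra
  haveI : IsScalarTower (MvPolynomial σ R) A₀ A := .of_algebraMap_eq fun _ => rfl
  haveI : IsScalarTower R (MvPolynomial σ R) A := .of_algebraMap_eq fun r => by
    show algebraMap A₀ A (algebraMap R A₀ r) = algebraMap A₀ A (algebraMap (MvPolynomial σ R) A₀ (algebraMap R _ r))
    exact congrArg _ (IsScalarTower.algebraMap_apply R (MvPolynomial σ R) A₀ r)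
  haveI : Algebra.FormallyEtale (MvPolynomial σ R) A := hfe
  let p : Ideal R := P₀.comap (algebraMap R A₀)
  let K₀ := SGA1t.kummer A₀ a₀ n
  letI : Algebra K₀ (SGA1t.kummer A a n) := (map a n a₀ h).toAlgebra
  haveI := isLocalization_map a n a₀ h P₀.primeCompl
  have hT : ∀ r : R, algebraMap R (SGA1t.kummer A a n) r =
      algebraMap K₀ (SGA1t.kummer A a n) (algebraMap R K₀ r) := fun r => by
    rw [RingHom.algebraMap_toAlgebra, IsScalarTower.algebraMap_apply R A₀ K₀, map_algebraMap,
      IsScalarTower.algebraMap_apply R A (SGA1t.kummer A a n), IsScalarTower.algebraMap_apply R A₀ A]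
  haveI : Algebra.FormallySmooth R (SGA1t.kummer A a n) :=
    Smooth.formallySmooth_kummer (R := R) (σ := σ) e he a
      (fun i => by rw [h, ha₀]; rfl) n
  haveI : Algebra.FinitePresentation A₀ K₀ :=
    Algebra.FinitePresentation.quotient (Submodule.fg_span (Set.finite_range _))
  haveI : Algebra.FinitePresentation R K₀ := Algebra.FinitePresentation.trans R A₀ K₀
  have hmax : ∀ x : A, x ∈ maximalIdeal A → algebraMap A (SGA1t.kummer A a n) x ∈ maximalIdeal (SGA1t.kummer A a n) := by
    intro x hx
    obtain ⟨Q, hQ, hQc⟩ := Alg.exists_prime_over a n (maximalIdeal A) ham hn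
    exact le_maximalIdeal hQ.ne_top (hQc.ge hx : x ∈ Q.comap _)
  haveI : IsScalarTower R A (SGA1t.kummer A a n) := inferInstance
  have hM : ∀ r ∉ p, algebraMap R K₀ r ∈ P₀.primeCompl.map (algebraMap A₀ K₀) := fun r hr =>
    ⟨algebraMap R A₀ r, hr, (IsScalarTower.algebraMap_apply R A₀ K₀ r).symm⟩
  have hpm : ∀ r ∈ p, algebraMap R (SGA1t.kummer A a n) r ∈ maximalIdeal (SGA1t.kummer A a n) := fun r hr => by
    rw [IsScalarTower.algebraMap_apply R A (SGA1t.kummer A a n)]
    exact hmax _ ((IsLocalization.AtPrime.to_map_mem_maximal_iff A P₀ _).2 hr)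
  refine connected_aux (R := R) (K₀ := K₀) (P₀.primeCompl.map (algebraMap A₀ K₀)) hT p hM hpm (algebraMap A (SGA1t.kummer A a n) (∏ i, a i)) ?_ L
  intro hmem
  have hprime := prime_map_fibre (R := R) (K₀ := K₀) (K := SGA1t.kummer A a n) (P₀.primeCompl.map (algebraMap A₀ K₀)) hT p hM hpm
  rw [map_prod, hprime.prod_mem_iff] at hmem
  obtain ⟨i, -, hi'⟩ := hmem
  obtain ⟨Λ, hΛ⟩ := exists_retraction a n hn
  have hle : ∀ z ∈ p.map (algebraMap R (SGA1t.kummer A a n)), ∀ w : SGA1t.kummer A a n, Λ (w * z) ∈ p.map (algebraMap R A) := by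
    intro z hz
    induction hz using Submodule.span_induction with
    | mem y hy =>
      obtain ⟨r, hr, rfl⟩ := hy
      intro w
      rw [IsScalarTower.algebraMap_apply R A (SGA1t.kummer A a n), mul_comm, ← Algebra.smul_def, map_smul, smul_eq_mul]
      exact Ideal.mul_mem_right _ _ (Ideal.mem_map_of_mem _ hr)
    | zero => intro w; rw [mul_zero, map_zero]; exact zero_mem _
    | add x y _ _ hx hy => intro w; rw [mul_add, map_add]; exact add_mem (hx w) (hy w)
    | smul d x _ hx => intro w; rw [smul_eq_mul, ← mul_assoc]; exact hx _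
  have hai : a i ∈ p.map (algebraMap R A) := by
    have := hle _ hi' 1
    rwa [one_mul, Algebra.algebraMap_eq_smul_one, map_smul, hΛ, smul_eq_mul, mul_one] at this
  have hne : p.map (algebraMap R A) ≠ ⊤ := ne_top_of_le_ne_top (maximalIdeal.isMaximal A).ne_top
    (Ideal.map_le_iff_le_comap.2 fun r hr => (IsLocalization.AtPrime.to_map_mem_maximal_iff A P₀ _).2 hr)
  rw [h, ha₀] at hai
  exact coord_notMem p hne (e i) hai

set_option maxHeartbeats 1000000 in
theorem connected_away {R : Type u} [CommRing R] {σ : Type u} [Finite σ] [Algebra R A₀]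
    [Algebra (MvPolynomial σ R) A₀] [IsScalarTower R (MvPolynomial σ R) A₀]
    [Algebra.Etale (MvPolynomial σ R) A₀] (P₀ : Ideal A₀) [P₀.IsPrime] [IsLocalization.AtPrime A P₀]
    (e : ι → σ) (he : Function.Injective e) (a₀ : ι → A₀)
    (ha₀ : ∀ i, a₀ i = algebraMap (MvPolynomial σ R) A₀ (MvPolynomial.X (e i))) (hP : ∀ i, a₀ i ∈ P₀)
    (h : ∀ i, a i = algebraMap A₀ A (a₀ i)) (hn : ∀ i, 1 ≤ n i) [Fintype ι]
    (L : Type u) [CommRing L] [Algebra (SGA1t.kummer A a n) L]
    [IsLocalization.Away (algebraMap A (SGA1t.kummer A a n) (∏ i, a i)) L] :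
    Nontrivial L ∧ ∀ x : L, IsIdempotentElem x → x = 0 ∨ x = 1 := by
  haveI : Algebra.FinitePresentation R A₀ := Algebra.FinitePresentation.trans R (MvPolynomial σ R) A₀
  refine connected_away_of_formallyEtale a n P₀ ?_ e he a₀ ha₀ hP h hn L
  letI : Algebra (MvPolynomial σ R) A := ((algebraMap A₀ A).comp (algebraMap (MvPolynomial σ R) A₀)).toAlgebra
  haveI : IsScalarTower (MvPolynomial σ R) A₀ A := .of_algebraMap_eq fun _ => rfl
  haveI : Algebra.FormallyEtale A₀ A := Algebra.FormallyEtale.of_isLocalization P₀.primeCompl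
  exact Algebra.FormallyEtale.comp (MvPolynomial σ R) A₀ A

end Groth.Agent.H9Kummer.Conn
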