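import Groth.Prelude.Def_SGA1t
import Groth.Agent.EtRamLib.GaloisTame
import Mathlib.AlgebraicGeometry.Morphisms.FormallyUnramified

/-!
# Torsors of order prime to the residue characteristic are tame

The residue field extension of an étale morphism at a point, on whose geometric fibres a finite group
acts transitively, is Galois of degree dividing a power of the group order.
-/

set_option autoImplicit false
set_option linter.style.haveILetI false
set_option backward.isDefEq.respectTransparency false
set_option backward.isDefEq.respectTransparency.types false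

universe u

open CategoryTheory CategoryTheory.Limits AlgebraicGeometry

noncomputable section

namespace Groth.Agent.H9Kummer.PrincipalTame

theorem residueFieldMap_finite {Z X : Scheme.{u}} (f : Z ⟶ X) [Etale f] (z : Z) :
    (f.residueFieldMap z).hom.Finite := by
    algebraize [(f.stalkMap z).hom]
    have : IsLocalHom (algebraMap (X.presheaf.stalk (f.base z)) (Z.presheaf.stalk z)) := inferInstanceAs <| IsLocalHom (f.stalkMap z).hom
    have : Algebra.EssFiniteType (X.presheaf.stalk (f.base z)) (Z.presheaf.stalk z) := by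
      rw [← RingHom.essFiniteType_algebraMap, RingHom.algebraMap_toAlgebra]
      exact LocallyOfFiniteType.stalkMap f z
    have : Algebra.FormallyUnramified (X.presheaf.stalk (f.base z)) (Z.presheaf.stalk z) := by
      rw [← RingHom.formallyUnramified_algebraMap, RingHom.algebraMap_toAlgebra]
      exact FormallyUnramified.stalkMap f z
    have h2 : Module.Finite (IsLocalRing.ResidueField (X.presheaf.stalk (f.base z))) (IsLocalRing.ResidueField (Z.presheaf.stalk z)) := inferInstance
    have e : (f.residueFieldMap z).hom = algebraMap (IsLocalRing.ResidueField (X.presheaf.stalk (f.base z))) (IsLocalRing.ResidueField (Z.presheaf.stalk z)) := by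
      refine RingHom.ext fun w => ?_
      obtain ⟨w, rfl⟩ := IsLocalRing.residue_surjective w
      rfl
    have h3 : (f.residueFieldMap z).hom.Finite := by
      rw [e]
      have h2' : (algebraMap (IsLocalRing.ResidueField (X.presheaf.stalk (f.base z))) (IsLocalRing.ResidueField (Z.presheaf.stalk z))).Finite := RingHom.finite_algebraMap.2 h2
      exact h2'
    exact h3

theorem tame_of_transitive {Z X : Scheme.{u}} (f : Z ⟶ X) [Etale f] (z : Z) {G : Type} [Group G] [Finite G]
    (act : G → (Z ⟶ Z)) (hf : ∀ g, act g ≫ f = f) (h1 : act 1 = 𝟙 Z)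
    (hmul : ∀ g h, act (g * h) = act h ≫ act g)
    (htr : ∀ (Ω : Type u) [Field Ω] [IsAlgClosed Ω] (s t : Spec (CommRingCat.of Ω) ⟶ Z),
      s ≫ f = t ≫ f → ∃ g, s ≫ act g = t)
    (A : Type u) [CommRing A] [IsDomain A] [IsDiscreteValuationRing A]
    [Algebra A (X.residueField (f.base z))] [IsFractionRing A (X.residueField (f.base z))]
    (hn : IsUnit ((Nat.card G : ℕ) : IsLocalRing.ResidueField A)) :
    EtRam.IsTamelyRamified A ((f.residueFieldMap z).hom.comp (algebraMap A (X.residueField (f.base z)))) := by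
  letI algF : Algebra (X.residueField (f.base z)) (Z.residueField z) := (f.residueFieldMap z).hom.toAlgebra
  let F := Z.residueField z
  let K := X.residueField (f.base z)
  haveI hsep : Algebra.IsSeparable K F :=
    (inferInstance : letI : Algebra (X.residueField (f.base z)) (Z.residueField z) := (f.residueFieldMap z).hom.toAlgebra; Algebra.IsSeparable (X.residueField (f.base z)) (Z.residueField z))
  haveI hfin : Module.Finite K F := RingHom.finite_algebraMap.1 (residueFieldMap_finite f z : (algebraMap K F).Finite)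
  let Ω := AlgebraicClosure F
  let ι : Spec F ⟶ Z := Z.fromSpecResidueField z
  let R : G → (F →+* F) → Prop := fun g τ => ι ≫ act g = Spec.map (CommRingCat.ofHom τ) ≫ ι
  have hKι : ∀ {L : Type u} [Field L] (σ : F →+* L), (Spec.map (CommRingCat.ofHom σ) ≫ ι) ≫ f = Spec.map (CommRingCat.ofHom (σ.comp (algebraMap K F))) ≫ X.fromSpecResidueField (f.base z) := fun {L} _ σ => by
    rw [Category.assoc, show ι ≫ f = _ from (Scheme.Hom.SpecMap_residueFieldMap_fromSpecResidueField f z).symm, ← Category.assoc, ← Spec.map_comp]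
    rfl
  have lift : ∀ σ : F →ₐ[K] Ω, ∃ (g : G) (τ : F →+* F), R g τ ∧ σ.toRingHom = (algebraMap F Ω).comp τ := fun σ => by
    let ξ : Spec (CommRingCat.of Ω) ⟶ X := (Spec.map (CommRingCat.ofHom (algebraMap F Ω)) ≫ ι) ≫ f
    have hσ : (Spec.map (CommRingCat.ofHom σ.toRingHom) ≫ ι) ≫ f = ξ := by
      show _ = (Spec.map (CommRingCat.ofHom (algebraMap F Ω)) ≫ ι) ≫ f
      rw [hKι, hKι, show σ.toRingHom.comp (algebraMap K F) = (algebraMap F Ω).comp (algebraMap K F) from RingHom.ext fun w => (σ.commutes w).trans (IsScalarTower.algebraMap_apply K F Ω w)]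
    obtain ⟨g, hg'⟩ := htr Ω (Spec.map (CommRingCat.ofHom (algebraMap F Ω)) ≫ ι)
      (Spec.map (CommRingCat.ofHom σ.toRingHom) ≫ ι) hσ.symm
    have hz : (act g).base z = z := by
      have h1 : (act g).base (ι.base ((Spec.map (CommRingCat.ofHom (algebraMap F Ω))).base (IsLocalRing.closedPoint Ω))) = ι.base ((Spec.map (CommRingCat.ofHom σ.toRingHom)).base (IsLocalRing.closedPoint Ω)) :=
        congrArg (fun (m : Spec (CommRingCat.of Ω) ⟶ Z) => m.base (IsLocalRing.closedPoint Ω)) hg'
      erw [Scheme.fromSpecResidueField_apply, Scheme.fromSpecResidueField_apply] at h1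
      exact h1
    let τ : F ⟶ F := (Z.residueFieldCongr hz).inv ≫ (act g).residueFieldMap z
    have hR : ι ≫ act g = Spec.map τ ≫ ι := by
      rw [Spec.map_comp, Category.assoc, ← Scheme.Hom.SpecMap_residueFieldMap_fromSpecResidueField (act g) z]
      congr 1
      simp [ι]
    refine ⟨g, τ.hom, hR, ?_⟩
    rw [Category.assoc, hR, ← Category.assoc, ← Spec.map_comp, cancel_mono] at hg'
    exact (congrArg CommRingCat.Hom.hom (Spec.map_injective hg')).symm
  have huniq : ∀ τ τ' : F →+* F, ∀ g, R g τ → R g τ' → τ = τ' := fun τ τ' g h h' =>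
    congrArg CommRingCat.Hom.hom (Spec.map_injective ((cancel_mono ι).1 (h.symm.trans h')))
  have hsurj : Function.Surjective (fun σ : F ≃ₐ[K] F => (IsScalarTower.toAlgHom K F Ω).comp σ.toAlgHom) := fun σ => by
    obtain ⟨g, τ, hR, hτ⟩ := lift σ
    let τ' : F →ₐ[K] F := { τ with commutes' := fun w => (algebraMap F Ω).injective ((RingHom.congr_fun hτ (algebraMap K F w)).symm.trans ((σ.commutes w).trans (IsScalarTower.algebraMap_apply K F Ω w))) }
    exact ⟨AlgEquiv.ofBijective τ' (Algebra.IsAlgebraic.algHom_bijective τ'), AlgHom.ext fun w => (RingHom.congr_fun hτ w).symm⟩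
  have hinj : Function.Injective (fun σ : F ≃ₐ[K] F => (IsScalarTower.toAlgHom K F Ω).comp σ.toAlgHom) := fun σ σ' h =>
    AlgEquiv.ext fun w => (algebraMap F Ω).injective (AlgHom.congr_fun h w)
  haveI : IsGalois K F := IsGalois.of_card_aut_eq_finrank K F (by
    rw [Nat.card_congr (Equiv.ofBijective _ ⟨hinj, hsurj⟩), Nat.card_eq_fintype_card, AlgHom.card K F Ω])
  refine Groth.Agent.EtRamLib.tame_of_galois A K (M := F) (fun h0 => hn.ne_zero ?_)
  obtain ⟨p, hp⟩ := CharP.exists (IsLocalRing.ResidueField A)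
  rw [CharP.cast_eq_zero_iff (IsLocalRing.ResidueField A) p] at h0 ⊢
  rcases CharP.char_is_prime_or_zero (IsLocalRing.ResidueField A) p with hpp | hpp
  swap
  · subst hpp
    exact absurd (zero_dvd_iff.1 h0) (Nat.card_pos (α := F ≃ₐ[K] F)).ne'
  haveI : Fact p.Prime := ⟨hpp⟩
  obtain ⟨σ, hσ⟩ := exists_prime_orderOf_dvd_card' p h0
  obtain ⟨g, τ, hR, hτ⟩ := lift ((IsScalarTower.toAlgHom K F Ω).comp σ.toAlgHom)
  have hτσ : τ = σ.toAlgHom.toRingHom := RingHom.ext fun w => (algebraMap F Ω).injective (RingHom.congr_fun hτ w).symm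
  subst hτσ
  have hpow : ∀ m : ℕ, R (g ^ m) (σ ^ m).toAlgHom.toRingHom := fun m => by
    induction m with
    | zero =>
      show ι ≫ act (g ^ 0) = Spec.map (𝟙 F) ≫ ι
      rw [pow_zero, h1, Spec.map_id, Category.id_comp, Category.comp_id]
    | succ m ih =>
      show ι ≫ act (g ^ (m + 1)) = _
      rw [pow_succ g m, pow_succ' σ m, hmul]
      rw [← Category.assoc, show ι ≫ act g = _ from hR, Category.assoc, show ι ≫ act (g ^ m) = _ from ih, ← Category.assoc, ← Spec.map_comp]
      rfl
  rw [← hσ]
  refine orderOf_dvd_of_pow_eq_one (AlgEquiv.ext fun w => ?_)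
  have e1 := hpow (Nat.card G)
  rw [pow_card_eq_one'] at e1
  have e2 := hpow 0
  rw [pow_zero, pow_zero] at e2
  exact RingHom.congr_fun (huniq _ _ 1 e1 e2) w

/-- At a proper generization of a point with discrete valuation local ring, the residue field is the
fraction field. -/
theorem isFractionRing_residueField {X : Scheme.{u}} {u y : X} (h : u ⤳ y) (hne : u ≠ y)
    [IsDomain (X.presheaf.stalk y)] [IsDiscreteValuationRing (X.presheaf.stalk y)] :
    @IsFractionRing (X.presheaf.stalk y) _ (X.residueField u) _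
      ((X.residue u).hom.comp (X.presheaf.stalkSpecializes h).hom).toAlgebra := by
  obtain ⟨U, hU, hyU, -⟩ := exists_isAffineOpen_mem_and_subset (x := y) (U := ⊤) trivial
  have huU : u ∈ U := h.mem_open U.2 hyU
  let g : X.presheaf.stalk y →+* X.residueField u := (X.residue u).hom.comp (X.presheaf.stalkSpecializes h).hom
  letI : Algebra (X.presheaf.stalk y) (X.residueField u) := g.toAlgebra
  haveI hy := hU.isLocalization_stalk ⟨y, hyU⟩
  haveI hu := hU.isLocalization_stalk ⟨u, huU⟩
  letI := X.presheaf.algebra_section_stalk ⟨y, hyU⟩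
  letI := X.presheaf.algebra_section_stalk ⟨u, huU⟩
  have hg : ∀ b : Γ(X, U), g (X.presheaf.germ U y hyU b) = X.residue u (X.presheaf.germ U u huU b) := fun b => by
    exact congrArg (X.residue u) (X.presheaf.germ_stalkSpecializes_apply (h := h) hyU b)
  have hker : RingHom.ker g ≠ IsLocalRing.maximalIdeal (X.presheaf.stalk y) := fun he => hne (by
    have : (hU.primeIdealOf ⟨u, huU⟩).asIdeal = (hU.primeIdealOf ⟨y, hyU⟩).asIdeal := by
      ext b
      rw [← IsLocalization.AtPrime.to_map_mem_maximal_iff (X.presheaf.stalk u) (hU.primeIdealOf ⟨u, huU⟩).asIdeal b,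
        ← IsLocalization.AtPrime.to_map_mem_maximal_iff (X.presheaf.stalk y) (hU.primeIdealOf ⟨y, hyU⟩).asIdeal b,
        ← he, RingHom.mem_ker]
      exact ((hg b).symm ▸ (IsLocalRing.residue_eq_zero_iff _).symm :)
    have h2 := congrArg hU.fromSpec.base (PrimeSpectrum.ext this)
    rwa [hU.fromSpec_primeIdealOf, hU.fromSpec_primeIdealOf] at h2)
  have hinj : Function.Injective g := by
    rw [RingHom.injective_iff_ker_eq_bot]
    by_contra h0
    haveI : (RingHom.ker g).IsPrime := RingHom.ker_isPrime g
    exact hker (IsLocalRing.eq_maximalIdeal (Ideal.IsPrime.isMaximal inferInstance h0))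
  haveI : FaithfulSMul (X.presheaf.stalk y) (X.residueField u) := (faithfulSMul_iff_algebraMap_injective _ _).2 hinj
  refine IsFractionRing.of_field (X.presheaf.stalk y) (X.residueField u) fun z => ?_
  obtain ⟨z, rfl⟩ := X.residue_surjective u z
  obtain ⟨b, t, rfl⟩ := IsLocalization.exists_mk'_eq (hU.primeIdealOf ⟨u, huU⟩).asIdeal.primeCompl z
  refine ⟨X.presheaf.germ U y hyU b, X.presheaf.germ U y hyU t, ?_⟩
  show _ = g _ / g _
  rw [hg, hg]
  have h3 : IsUnit (X.presheaf.germ U u huU t.1) := IsLocalization.map_units (X.presheaf.stalk u) t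
  rw [eq_div_iff (h3.map (X.residue u).hom).ne_zero, ← map_mul]
  congr 1
  exact IsLocalization.mk'_spec (X.presheaf.stalk u) b t

theorem main {X S : Scheme.{u}} (f : X ⟶ S) {r : ℕ} (φ : Fin r → Γ(X, ⊤))
    (C : Type) [Group C] [Finite C] (hC : ∀ s : S, IsUnit ((Nat.card C : ℕ) : S.residueField s))
    (P : FEt.Cat (SGA1t.compl φ : Scheme.{u})) (ρ : C →* Aut P) (hP : SGA1t.IsPrincipal C P ρ) :
    SGA1t.IsRelTame f φ P := by
  intro Ω _ _ σ _ y _ hy w h hne
  haveI : Etale P.hom := P.prop.2
  haveI : Etale (P.hom ≫ (SGA1t.compl φ).ι) := inferInstance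
  haveI : Etale (pullback.snd (P.hom ≫ (SGA1t.compl φ).ι) (pullback.fst f σ)) :=
    MorphismProperty.pullback_snd _ _ inferInstance
  let act : C → (pullback (P.hom ≫ (SGA1t.compl φ).ι) (pullback.fst f σ) ⟶
      pullback (P.hom ≫ (SGA1t.compl φ).ι) (pullback.fst f σ)) := fun g =>
    pullback.lift (pullback.fst _ _ ≫ (ρ g).hom.left) (pullback.snd _ _) (by
      rw [Category.assoc, ← Category.assoc (ρ g).hom.left, MorphismProperty.Over.w]
      exact pullback.condition)
  haveI := isFractionRing_residueField h hne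
  letI : Algebra ((pullback f σ).presheaf.stalk y) ((pullback f σ).residueField
      ((pullback.snd (P.hom ≫ (SGA1t.compl φ).ι) (pullback.fst f σ)).base w)) :=
    (((pullback f σ).residue _).hom.comp ((pullback f σ).presheaf.stalkSpecializes h).hom).toAlgebra
  refine tame_of_transitive (pullback.snd (P.hom ≫ (SGA1t.compl φ).ι) (pullback.fst f σ)) w act
    (fun g => pullback.lift_snd _ _ _) ?_ ?_ ?_ _ ?_
  · refine pullback.hom_ext ?_ ?_
    · simp only [act, pullback.lift_fst, map_one, Category.id_comp]
      exact Category.comp_id _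
    · simp [act]
  · intro g g'
    refine pullback.hom_ext ?_ ?_
    · simp only [act, pullback.lift_fst, map_mul, Category.assoc, pullback.lift_fst_assoc]
      rfl
    · simp [act]
  · intro Ω' _ _ s t hst
    let ξ : Spec (CommRingCat.of Ω') ⟶ (SGA1t.compl φ : Scheme.{u}) := s ≫ pullback.fst _ _ ≫ P.hom
    have ht : (t ≫ pullback.fst _ _) ≫ P.hom = ξ := by
      rw [← cancel_mono (SGA1t.compl φ).ι]
      simp only [ξ, Category.assoc, pullback.condition]
      rw [reassoc_of% hst]
    obtain ⟨g, hg, -⟩ := hP.2 Ω' ξ ⟨s ≫ pullback.fst _ _, Category.assoc _ _ _⟩ ⟨t ≫ pullback.fst _ _, ht⟩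
    refine ⟨g, pullback.hom_ext ?_ ?_⟩
    · rw [Category.assoc, pullback.lift_fst, ← Category.assoc]
      exact congrArg Subtype.val hg
    · rw [Category.assoc, pullback.lift_snd]
      exact hst
  · have h0 : IsUnit ((Nat.card C : ℕ) : Γ(Spec (CommRingCat.of Ω), ⊤)) := by
      let x0 : Spec (CommRingCat.of Ω) := IsLocalRing.closedPoint Ω
      have h1 : IsUnit ((Nat.card C : ℕ) : (Spec (CommRingCat.of Ω)).residueField x0) := by
        simpa using (hC (σ.base x0)).map (σ.residueFieldMap x0).hom
      have h2 : IsUnit ((Nat.card C : ℕ) : Ω) := by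
        rw [isUnit_iff_ne_zero]
        intro h3
        refine h1.ne_zero ?_
        have := congrArg ((Scheme.ΓSpecIso (CommRingCat.of Ω)).inv ≫ (Spec (CommRingCat.of Ω)).presheaf.germ ⊤ x0 trivial ≫ (Spec (CommRingCat.of Ω)).residue x0).hom h3
        rwa [map_natCast, map_zero] at this
      simpa using h2.map (Scheme.ΓSpecIso (CommRingCat.of Ω)).inv.hom
    simpa using h0.map (((pullback.snd f σ).appTop ≫ (pullback f σ).presheaf.germ ⊤ y trivial).hom.comp (RingHom.id _) |> (IsLocalRing.residue ((pullback f σ).presheaf.stalk y)).comp)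

end Groth.Agent.H9Kummer.PrincipalTame
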