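import Groth.Agent.H9Kummer.LocalCover
import Groth.Agent.H9Kummer.RadicalTame
import Groth.Agent.H9Kummer.PrincipalTame
import Mathlib.FieldTheory.IsSepClosed

/-!
# Kummer covers are relatively tame
-/

set_option autoImplicit false
set_option linter.style.haveILetI false
set_option backward.isDefEq.respectTransparency false
set_option backward.isDefEq.respectTransparency.types false

universe u

open CategoryTheory CategoryTheory.Limits AlgebraicGeometry

attribute [-instance] CategoryTheory.catToReflQuiver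

noncomputable section

namespace Groth.Agent.H9Kummer.CoverTame

/-- The value of a global section at a point. -/
def ev (X : Scheme.{u}) (x : X) : Γ(X, ⊤) →+* X.residueField x :=
  (X.residue x).hom.comp (X.presheaf.germ ⊤ x trivial).hom

theorem ev_comp {X Y : Scheme.{u}} (g : X ⟶ Y) (x : X) (z : Γ(Y, ⊤)) :
    ev X x (g.appTop z) = g.residueFieldMap x (ev Y (g.base x) z) :=
  (Scheme.Γevaluation_naturality_apply g x z).symm

theorem point_appTop {X : Scheme.{u}} (x : X) {L : Type u} [Field L] (σ : X.residueField x →+* L) (z : Γ(X, ⊤)) :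
    (Spec.map (CommRingCat.ofHom σ) ≫ X.fromSpecResidueField x).appTop z =
      (Scheme.ΓSpecIso (CommRingCat.of L)).inv (σ (ev X x z)) := by
  have h : (Spec.map (CommRingCat.ofHom σ) ≫ X.fromSpecResidueField x) =
      Spec.map (X.residue x ≫ CommRingCat.ofHom σ) ≫ X.fromSpecStalk x := by
    rw [Spec.map_comp, Category.assoc]
    rfl
  rw [h, Scheme.Hom.comp_appTop, CommRingCat.comp_apply, Scheme.fromSpecStalk_appTop]
  have h3 := congr($(Scheme.ΓSpecIso_inv_naturality (X.residue x ≫ CommRingCat.ofHom σ)) (X.presheaf.germ ⊤ x trivial z))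
  simp only [CommRingCat.comp_apply] at h3 ⊢
  exact h3.symm

set_option maxHeartbeats 1000000 in
theorem tame_point {A : CommRingCat.{u}} {ι : Type} [Fintype ι] (a : ι → A) (n : ι → ℕ) (hn1 : ∀ i, 1 ≤ n i)
    (hu : ∀ i, IsUnit ((n i : ℕ) : A)) {Z X' : Scheme.{u}} (q : Z ⟶ X') [Etale q]
    (p : Z ⟶ Spec (CommRingCat.of (SGA1t.kummer A a n))) (pA : X' ⟶ Spec A)
    (hp : p ≫ Spec.map (CommRingCat.ofHom (algebraMap A (SGA1t.kummer A a n))) = q ≫ pA)
    (Ω : Type u) [Field Ω] [IsSepClosed Ω] (pΩ : X' ⟶ Spec (CommRingCat.of Ω))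
    (hmono : ∀ {T : Scheme.{u}} (s s' : T ⟶ Z), s ≫ q = s' ≫ q → s ≫ p = s' ≫ p → s = s')
    (y : X') [IsDomain (X'.presheaf.stalk y)] [IsDiscreteValuationRing (X'.presheaf.stalk y)] (w : Z)
    (h : q.base w ⤳ y) (hne : q.base w ≠ y) :
    EtRam.IsTamelyRamified (X'.presheaf.stalk y)
      ((q.residueFieldMap w).hom.comp ((X'.residue _).hom.comp (X'.presheaf.stalkSpecializes h).hom)) := by
  let π : Spec (CommRingCat.of (SGA1t.kummer A a n)) ⟶ Spec A :=
    Spec.map (CommRingCat.ofHom (algebraMap A (SGA1t.kummer A a n)))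
  letI algKF : Algebra (X'.residueField (q.base w)) (Z.residueField w) := (q.residueFieldMap w).hom.toAlgebra
  haveI : Algebra.IsSeparable (X'.residueField (q.base w)) (Z.residueField w) :=
    (inferInstance : letI : Algebra (X'.residueField (q.base w)) (Z.residueField w) := (q.residueFieldMap w).hom.toAlgebra; Algebra.IsSeparable (X'.residueField (q.base w)) (Z.residueField w))
  haveI : Module.Finite (X'.residueField (q.base w)) (Z.residueField w) :=
    RingHom.finite_algebraMap.1 (PrincipalTame.residueFieldMap_finite q w)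
  haveI := PrincipalTame.isFractionRing_residueField h hne
  letI : Algebra (X'.presheaf.stalk y) (X'.residueField (q.base w)) :=
    ((X'.residue _).hom.comp (X'.presheaf.stalkSpecializes h).hom).toAlgebra
  let c : CommRingCat.of (SGA1t.kummer A a n) ⟶ Γ(Spec (CommRingCat.of (SGA1t.kummer A a n)), ⊤) :=
    (Scheme.ΓSpecIso _).inv
  let t : ι → Z.residueField w := fun i =>
    ev _ w (p.appTop (c (Alg.T a n i)))
  have hπ : ∀ b : A, c (algebraMap A (SGA1t.kummer A a n) b) = π.appTop ((Scheme.ΓSpecIso A).inv b) := fun b => by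
    exact congr($(Scheme.ΓSpecIso_inv_naturality (CommRingCat.ofHom (algebraMap A (SGA1t.kummer A a n)))) b)
  have hpt : ∀ b : A, ev _ w (p.appTop (c (algebraMap A (SGA1t.kummer A a n) b))) =
      q.residueFieldMap w (ev _ (q.base w) (pA.appTop ((Scheme.ΓSpecIso A).inv b))) := fun b => by
    rw [hπ, ← ev_comp, ← CommRingCat.comp_apply, ← Scheme.Hom.comp_appTop, hp, Scheme.Hom.comp_appTop,
      CommRingCat.comp_apply]
  refine RadicalTame.main (X'.presheaf.stalk y) (X'.residueField (q.base w))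
    t n hn1 (fun i => ⟨ev _ (q.base w) (pA.appTop ((Scheme.ΓSpecIso A).inv (a i))), ?_⟩)
    (fun i => ?_) (fun L _ s s' hK ht => ?_) (fun i => ?_)
  · show t i ^ n i = q.residueFieldMap w _
    rw [← hpt, ← Alg.T_pow a n i]
    simp only [t, map_pow]
  · let toK : Ω →+* X'.residueField (q.base w) :=
      (ev _ (q.base w)).comp (pΩ.appTop.hom.comp (Scheme.ΓSpecIso (CommRingCat.of Ω)).inv.hom)
    have hΩ : ((n i : ℕ) : Ω) ≠ 0 := by
      let z : Spec (CommRingCat.of Ω) := pΩ.base y
      have h1 := ((hu i).map ((X'.presheaf.germ ⊤ y trivial).hom.comp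
        (pA.appTop.hom.comp (Scheme.ΓSpecIso A).inv.hom)))
      rw [map_natCast] at h1
      intro h0
      have h2 := congrArg ((X'.presheaf.germ ⊤ y trivial).hom.comp
        (pΩ.appTop.hom.comp (Scheme.ΓSpecIso (CommRingCat.of Ω)).inv.hom)) h0
      rw [map_natCast, map_zero] at h2
      exact h1.ne_zero h2
    haveI : NeZero ((n i : ℕ) : Ω) := ⟨hΩ⟩
    obtain ⟨ζ, hζ⟩ := HasEnoughRootsOfUnity.exists_primitiveRoot Ω (n i)
    exact ⟨toK ζ, hζ.map_of_injective toK.injective⟩
  · have h1 : Spec.map (CommRingCat.ofHom s) ≫ Scheme.fromSpecResidueField _ w =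
        Spec.map (CommRingCat.ofHom s') ≫ Scheme.fromSpecResidueField _ w := by
      have hsnd : (Spec.map (CommRingCat.ofHom s) ≫ Scheme.fromSpecResidueField _ w) ≫ q =
          (Spec.map (CommRingCat.ofHom s') ≫ Scheme.fromSpecResidueField _ w) ≫ q := by
        simp only [Category.assoc, ← Scheme.Hom.SpecMap_residueFieldMap_fromSpecResidueField q w]
        rw [← Spec.map_comp_assoc, ← Spec.map_comp_assoc]
        refine congrArg (fun k => Spec.map k ≫ _) ?_
        exact CommRingCat.hom_ext hK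
      refine hmono _ _ hsnd ?_
      rw [Category.assoc, Category.assoc]
      refine ext_of_isAffine (CommRingCat.hom_ext ?_)
      let e1 := (Scheme.ΓSpecIso (CommRingCat.of L)).inv.hom.comp
        (s.comp ((ev _ w).comp (p.appTop.hom.comp c.hom)))
      let e2 := (Scheme.ΓSpecIso (CommRingCat.of L)).inv.hom.comp
        (s'.comp ((ev _ w).comp (p.appTop.hom.comp c.hom)))
      have he : e1 = e2 := by
        refine Ideal.Quotient.ringHom_ext (MvPolynomial.ringHom_ext (fun b => ?_) fun i => ?_)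
        · show (Scheme.ΓSpecIso (CommRingCat.of L)).inv (s (ev _ w (p.appTop (c (algebraMap A (SGA1t.kummer A a n) b))))) =
            (Scheme.ΓSpecIso (CommRingCat.of L)).inv (s' (ev _ w (p.appTop (c (algebraMap A (SGA1t.kummer A a n) b)))))
          rw [hpt]
          exact congrArg _ (RingHom.congr_fun hK _)
        · exact congrArg (Scheme.ΓSpecIso (CommRingCat.of L)).inv (ht i)
      refine RingHom.ext fun z => ?_
      obtain ⟨z, rfl⟩ : ∃ z', c z' = z := ⟨(Scheme.ΓSpecIso _).hom z, by simp [c]⟩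
      show (Spec.map (CommRingCat.ofHom s) ≫ Scheme.fromSpecResidueField _ w ≫ p).appTop (c z) =
        (Spec.map (CommRingCat.ofHom s') ≫ Scheme.fromSpecResidueField _ w ≫ p).appTop (c z)
      rw [← Category.assoc, ← Category.assoc, Scheme.Hom.comp_appTop (Spec.map (CommRingCat.ofHom s) ≫ _) p,
        Scheme.Hom.comp_appTop (Spec.map (CommRingCat.ofHom s') ≫ _) p, CommRingCat.comp_apply,
        CommRingCat.comp_apply, point_appTop, point_appTop]
      exact RingHom.congr_fun he z
    exact congrArg CommRingCat.Hom.hom (Spec.map_injective ((cancel_mono (Scheme.fromSpecResidueField _ w)).1 h1))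
  · have h1 := ((hu i).map ((X'.presheaf.germ ⊤ y trivial).hom.comp
      (pA.appTop.hom.comp (Scheme.ΓSpecIso A).inv.hom))).map
      (IsLocalRing.residue (X'.presheaf.stalk y))
    simpa using h1


set_option maxHeartbeats 1000000 in
theorem isRelTame {A : CommRingCat.{u}} {S : Scheme.{u}} (g : Spec A ⟶ S) {r : ℕ} (ψ : Fin r → Γ(Spec A, ⊤))
    {ι : Type} [Fintype ι] (a : ι → A) (n : ι → ℕ) (hn1 : ∀ i, 1 ≤ n i) (hu : ∀ i, IsUnit ((n i : ℕ) : A))
    (hF : IsFinite (Spec.map (CommRingCat.ofHom (algebraMap A (SGA1t.kummer A a n))) ∣_ SGA1t.compl ψ))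
    (hE : Etale (Spec.map (CommRingCat.ofHom (algebraMap A (SGA1t.kummer A a n))) ∣_ SGA1t.compl ψ)) :
    SGA1t.IsRelTame g ψ (MorphismProperty.Over.mk ⊤
      (Spec.map (CommRingCat.ofHom (algebraMap A (SGA1t.kummer A a n))) ∣_ SGA1t.compl ψ) ⟨hF, hE⟩) := by
  intro Ω _ _ σ _ y _ hy w h hne
  haveI := hy
  let π : Spec (CommRingCat.of (SGA1t.kummer A a n)) ⟶ Spec A :=
    Spec.map (CommRingCat.ofHom (algebraMap A (SGA1t.kummer A a n)))
  let U := SGA1t.compl ψ
  haveI : Etale (π ∣_ U) := hE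
  haveI : Etale ((π ∣_ U) ≫ U.ι) := inferInstance
  haveI : Etale (pullback.snd ((π ∣_ U) ≫ U.ι) (pullback.fst g σ)) := MorphismProperty.pullback_snd _ _ inferInstance
  refine tame_point a n hn1 hu (pullback.snd ((π ∣_ U) ≫ U.ι) (pullback.fst g σ))
    (pullback.fst _ _ ≫ (π ⁻¹ᵁ U).ι) (pullback.fst g σ) ?_ Ω (pullback.snd g σ) ?_ y w h hne
  · rw [Category.assoc, ← morphismRestrict_ι]
    exact pullback.condition
  · intro T s s' h1 h2
    rw [← Category.assoc, ← Category.assoc] at h2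
    exact pullback.hom_ext ((cancel_mono (π ⁻¹ᵁ U).ι).1 h2) h1

end Groth.Agent.H9Kummer.CoverTame

namespace Groth.Agent.H9Kummer.CoverTame

open LocalCover

theorem local_cover {X S : Scheme.{u}} (f : X ⟶ S) {r : ℕ} (φ : Fin r → Γ(X, ⊤))
    (hD : SGA1t.IsRelSNC f φ) (x : X) (hx : Nonempty (SGA1t.vanishingAt φ x))
    (n : SGA1t.vanishingAt φ x → ℕ) (hn1 : ∀ i, 1 ≤ n i) (hnu : ∀ i, IsUnit ((n i : ℕ) : X.residueField x)) :
    let a : SGA1t.vanishingAt φ x → X.presheaf.stalk x := fun i => (X.presheaf.germ ⊤ x trivial).hom (φ i.1)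
    let π : Spec (CommRingCat.of (SGA1t.kummer (X.presheaf.stalk x) a n)) ⟶ Spec (CommRingCat.of (X.presheaf.stalk x)) :=
      Spec.map (CommRingCat.ofHom (algebraMap (X.presheaf.stalk x) (SGA1t.kummer (X.presheaf.stalk x) a n)))
    let φ₁ : Fin r → Γ(Spec (CommRingCat.of (X.presheaf.stalk x)), ⊤) := fun i => (X.fromSpecStalk x).appTop (φ i)
    IsFinite (π ∣_ SGA1t.compl φ₁) ∧ Etale (π ∣_ SGA1t.compl φ₁) ∧
      ConnectedSpace ↥(π ⁻¹ᵁ SGA1t.compl φ₁) ∧
      ∀ [hF : IsFinite (π ∣_ SGA1t.compl φ₁)] [hE : Etale (π ∣_ SGA1t.compl φ₁)],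
        SGA1t.IsRelTame (X.fromSpecStalk x ≫ f) φ₁ (MorphismProperty.Over.mk ⊤ (π ∣_ SGA1t.compl φ₁) ⟨hF, hE⟩) := by
  intro a π φ₁
  have hu : ∀ i, IsUnit ((n i : ℕ) : X.presheaf.stalk x) := fun i => by
    rw [← IsLocalRing.residue_ne_zero_iff_isUnit, map_natCast]
    exact (hnu i).ne_zero
  haveI : IsFinite π := (IsFinite.SpecMap_iff _).2 (RingHom.finite_algebraMap.2 (Alg.finite a n hn1))
  have hU : SGA1t.compl φ₁ = PrimeSpectrum.basicOpen (∏ i, a i) := compl_eq φ x
  refine ⟨MorphismProperty.of_isPullback (P := @IsFinite) (isPullback_morphismRestrict π _).flip inferInstance, ?_, ?_,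
    fun {hF} {hE} => isRelTame (A := CommRingCat.of (X.presheaf.stalk x)) (X.fromSpecStalk x ≫ f) φ₁ a n hn1 hu hF hE⟩
  · rw [hU]
    exact restrict_etale _ _ (Alg.etale_away a n hu hn1)
  · rw [hU]
    exact preimage_connected _ _ (connected_stalk f φ hD x hx n hn1 _)

end Groth.Agent.H9Kummer.CoverTame
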