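import Groth.Agent.H9Kummer.LocalCover
import Groth.Agent.H9Kummer.Smooth
import Groth.Agent.Hensel.Henselization
import Groth.Agent.Hensel.FiniteDescent

/-!
# Kummer covers of strictly local schemes along relative normal crossings are connected
-/

set_option autoImplicit false
set_option linter.style.haveILetI false
set_option backward.isDefEq.respectTransparency false
set_option backward.isDefEq.respectTransparency.types false

universe u

open IsLocalRing

noncomputable section

namespace Groth.Agent.H9Kummer.StrictConn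

/-- An algebra of finite presentation over a localization is a localization of an algebra of finite
presentation. -/
theorem exists_model {A₀ A : Type u} [CommRing A₀] [CommRing A] [Algebra A₀ A] (M : Submonoid A₀) [IsLocalization M A]
    (B : Type u) [CommRing B] [Algebra A B] [Algebra.FinitePresentation A B] :
    ∃ (B₀ : Type u) (_ : CommRing B₀) (_ : Algebra A₀ B₀) (_ : Algebra B₀ B),
      Algebra.FinitePresentation A₀ B₀ ∧
      (∀ x, algebraMap B₀ B (algebraMap A₀ B₀ x) = algebraMap A B (algebraMap A₀ A x)) ∧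
      IsLocalization (M.map (algebraMap A₀ B₀)) B := by
  classical
  obtain ⟨N, f, hf, hfg⟩ := Algebra.FinitePresentation.out (R := A) (A := B)
  obtain ⟨s, hs⟩ := hfg
  letI : Algebra (MvPolynomial (Fin N) A₀) (MvPolynomial (Fin N) A) := (MvPolynomial.map (algebraMap A₀ A)).toAlgebra
  haveI : IsLocalization (M.map (MvPolynomial.C (σ := Fin N))) (MvPolynomial (Fin N) A) := MvPolynomial.isLocalization (σ := Fin N) M A
  choose xg hxg using fun g : MvPolynomial (Fin N) A => IsLocalization.surj (M.map (MvPolynomial.C (σ := Fin N))) g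
  let I₀ : Ideal (MvPolynomial (Fin N) A₀) := Ideal.span ((s.image fun g => (xg g).1 : Finset _) : Set (MvPolynomial (Fin N) A₀))
  let g' : MvPolynomial (Fin N) A →+* B := f.toRingHom
  have hI : ∀ x ∈ I₀, g' (algebraMap _ _ x) = 0 := fun x hx => by
    refine (Ideal.span_le.2 ?_ hx : x ∈ RingHom.ker (g'.comp (algebraMap (MvPolynomial (Fin N) A₀) (MvPolynomial (Fin N) A))))
    intro y hy
    obtain ⟨g, hg, rfl⟩ := Finset.mem_image.1 hy
    rw [SetLike.mem_coe, RingHom.mem_ker, RingHom.comp_apply, ← hxg, map_mul]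
    have : g ∈ RingHom.ker f.toRingHom := hs ▸ Ideal.subset_span hg
    rw [show g' g = 0 from this, zero_mul]
  letI : Algebra (MvPolynomial (Fin N) A₀ ⧸ I₀) B :=
    (Ideal.Quotient.lift I₀ (g'.comp (algebraMap (MvPolynomial (Fin N) A₀) (MvPolynomial (Fin N) A))) hI).toAlgebra
  refine ⟨MvPolynomial (Fin N) A₀ ⧸ I₀, inferInstance, inferInstance, inferInstance,
    Algebra.FinitePresentation.quotient ⟨_, rfl⟩, fun x => ?_, ?_⟩
  · show g' (MvPolynomial.map (algebraMap A₀ A) (MvPolynomial.C x)) = _
    rw [MvPolynomial.map_C]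
    exact f.commutes _
  · have := IsLocalization.of_surjective (M.map (MvPolynomial.C (σ := Fin N))) (MvPolynomial (Fin N) A)
      (R' := MvPolynomial (Fin N) A₀ ⧸ I₀) (S' := B) (Ideal.Quotient.mk I₀) Ideal.Quotient.mk_surjective g' hf rfl
      (by
        rw [Ideal.mk_ker, show RingHom.ker g' = Ideal.span (s : Set _) from hs.symm, Ideal.span_le]
        intro g hg
        have h1 : algebraMap _ (MvPolynomial (Fin N) A) (xg g).1 ∈ I₀.map (algebraMap (MvPolynomial (Fin N) A₀) (MvPolynomial (Fin N) A)) :=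
          Ideal.mem_map_of_mem _ (Ideal.subset_span (Finset.mem_image_of_mem _ hg))
        rw [← hxg] at h1
        exact (Ideal.mul_unit_mem_iff_mem _ (IsLocalization.map_units (MvPolynomial (Fin N) A) (xg g).2)).1 h1)
    refine (congrArg (fun T => IsLocalization T B) ?_).mp this
    exact Submonoid.map_map M _ _

/-- A relation which is the image of a relation in a connected localised ring is trivial. -/
theorem transfer {K' K : Type u} [CommRing K'] [CommRing K] (Φ : K' →+* K) (c' : K') (c : K) (hc : Φ c' = c)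
    (hid : ∀ x : Localization.Away c', IsIdempotentElem x → x = 0 ∨ x = 1) (b' : K') (j k : ℕ)
    (hrel : c' ^ j * (b' ^ 2 - c' ^ k * b') = 0) :
    (∃ m, c ^ m * Φ b' = 0) ∨ ∃ m, c ^ m * (Φ b' - c ^ k) = 0 := by
  let L := Localization.Away c'
  let u := IsLocalization.mk' L b' (⟨c' ^ k, k, rfl⟩ : Submonoid.powers c')
  have hcu : IsUnit (algebraMap K' L c') := IsLocalization.Away.algebraMap_isUnit c'
  have hu : u * algebraMap K' L c' ^ k = algebraMap K' L b' := by
    rw [← map_pow]; exact IsLocalization.mk'_spec _ _ _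
  have h1 := congrArg (algebraMap K' L) hrel
  rw [map_mul, map_zero, map_pow, (hcu.pow j).mul_right_eq_zero, map_sub, map_mul, map_pow, map_pow, sub_eq_zero, ← hu] at h1
  have hidem : IsIdempotentElem u := by
    show u * u = u
    refine ((hcu.pow k).pow 2).mul_left_injective ?_
    show u * u * (algebraMap K' L c' ^ k) ^ 2 = u * (algebraMap K' L c' ^ k) ^ 2
    linear_combination h1
  rcases hid u hidem with h0 | h0
  · left
    have h2 : algebraMap K' L b' = 0 := by rw [← hu, h0, zero_mul]
    obtain ⟨⟨_, m, rfl⟩, hm⟩ := (IsLocalization.map_eq_zero_iff (Submonoid.powers c') L _).1 h2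
    exact ⟨m, by simpa [hc] using congrArg Φ hm⟩
  · right
    have h2 : algebraMap K' L (b' - c' ^ k) = 0 := by rw [map_sub, ← hu, h0, one_mul, map_pow, sub_self]
    obtain ⟨⟨_, m, rfl⟩, hm⟩ := (IsLocalization.map_eq_zero_iff (Submonoid.powers c') L _).1 h2
    exact ⟨m, by simpa [hc] using congrArg Φ hm⟩

/-- Idempotents of a localisation are trivial if all relations `c ^ j * (b² - c ^ k * b) = 0` are. -/
theorem idempotent_of_relations {K L : Type u} [CommRing K] [CommRing L] [Algebra K L] (c : K) [IsLocalization.Away c L]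
    (h : ∀ (b : K) (j k : ℕ), c ^ j * (b ^ 2 - c ^ k * b) = 0 →
      (∃ m, c ^ m * b = 0) ∨ ∃ m, c ^ m * (b - c ^ k) = 0) :
    ∀ x : L, IsIdempotentElem x → x = 0 ∨ x = 1 := by
  intro x hx
  haveI : IsLocalization (Submonoid.powers c) L := ‹IsLocalization.Away _ L›
  obtain ⟨b, ⟨_, k, rfl⟩, rfl⟩ := IsLocalization.exists_mk'_eq (Submonoid.powers c) x
  have hck : IsUnit (algebraMap K L (c ^ k)) := IsLocalization.map_units L (⟨c ^ k, k, rfl⟩ : Submonoid.powers c)
  have hsp := IsLocalization.mk'_spec L b (⟨c ^ k, k, rfl⟩ : Submonoid.powers c)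
  have h0 : algebraMap K L (b ^ 2 - c ^ k * b) = 0 := by
    rw [map_sub, map_mul, map_pow (algebraMap K L) b 2, ← hsp, sub_eq_zero, mul_pow, sq, hx.eq]
    simp only []
    ring
  obtain ⟨⟨_, j, rfl⟩, hj⟩ := (IsLocalization.map_eq_zero_iff (Submonoid.powers c) L _).1 h0
  rcases h b j k hj with ⟨m, hm⟩ | ⟨m, hm⟩
  · left
    rw [IsLocalization.mk'_eq_zero_iff]
    exact ⟨⟨c ^ m, m, rfl⟩, hm⟩
  · right
    refine hck.mul_left_injective ?_
    show _ * algebraMap K L (c ^ k) = 1 * algebraMap K L (c ^ k)
    rw [hsp, one_mul, ← sub_eq_zero, ← map_sub]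
    exact (IsLocalization.map_eq_zero_iff (Submonoid.powers c) L _).2 ⟨⟨c ^ m, m, rfl⟩, hm⟩

theorem span_eq_map {A T : Type u} [CommRing A] [CommRing T] [Algebra A T] {ι : Type} (a : ι → A) (n : ι → ℕ) :
    Ideal.span (Set.range fun i => (MvPolynomial.X i : MvPolynomial ι T) ^ n i - MvPolynomial.C (algebraMap A T (a i))) =
      (Ideal.span (Set.range fun i => (MvPolynomial.X i : MvPolynomial ι A) ^ n i - MvPolynomial.C (a i))).map
        (MvPolynomial.map (algebraMap A T)) := by
  rw [Ideal.map_span, ← Set.range_comp]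
  refine congrArg Ideal.span (congrArg Set.range (funext fun i => ?_))
  simp

theorem mk_relation {A T : Type u} [CommRing A] [CommRing T] [Algebra A T] {ι : Type} [Fintype ι] (a : ι → A) (n : ι → ℕ)
    (p : MvPolynomial ι T) (j k : ℕ) :
    algebraMap T (SGA1t.kummer T (fun i => algebraMap A T (a i)) n) (∏ i, algebraMap A T (a i)) ^ j *
        (Ideal.Quotient.mk _ p ^ 2 -
          algebraMap T (SGA1t.kummer T (fun i => algebraMap A T (a i)) n) (∏ i, algebraMap A T (a i)) ^ k *
            Ideal.Quotient.mk _ p) = 0 ↔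
    MvPolynomial.C (algebraMap A T (∏ i, a i)) ^ j * (p ^ 2 - MvPolynomial.C (algebraMap A T (∏ i, a i)) ^ k * p) ∈
      (Ideal.span (Set.range fun i => (MvPolynomial.X i : MvPolynomial ι A) ^ n i - MvPolynomial.C (a i))).map
        (MvPolynomial.map (algebraMap A T)) := by
  rw [← span_eq_map a n, ← Ideal.Quotient.eq_zero_iff_mem, map_prod (algebraMap A T)]
  simp only [map_mul, map_sub, map_pow]
  rfl

theorem map_relation {T T' : Type u} [CommRing T] [CommRing T'] {ι : Type} (g : T →+* T') (x : T) (x' : T') (hx : g x = x')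
    (q : MvPolynomial ι T) (q' : MvPolynomial ι T') (hq : MvPolynomial.map g q = q') (j k : ℕ) :
    MvPolynomial.map g (MvPolynomial.C x ^ j * (q ^ 2 - MvPolynomial.C x ^ k * q)) =
      MvPolynomial.C x' ^ j * (q' ^ 2 - MvPolynomial.C x' ^ k * q') := by
  simp [hq, hx]

open Groth.Agent.Hensel in
theorem exists_stage {A K : Type u} [CommRing A] [Field K] [Algebra A K] {ι : Type} [Fintype ι] (a : ι → A) (n : ι → ℕ)
    (hK : ∀ i, algebraMap A K (a i) = 0) (p : MvPolynomial ι (Henz A K)) (j k : ℕ)
    (hp : MvPolynomial.C (algebraMap A (Henz A K) (∏ i, a i)) ^ j *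
        (p ^ 2 - MvPolynomial.C (algebraMap A (Henz A K) (∏ i, a i)) ^ k * p) ∈
      (Ideal.span (Set.range fun i => (MvPolynomial.X i : MvPolynomial ι A) ^ n i - MvPolynomial.C (a i))).map
        (MvPolynomial.map (algebraMap A (Henz A K)))) :
    ∃ (B : Type u) (_ : CommRing B) (_ : Algebra A B) (_ : Algebra.Etale A B) (Q : Ideal B) (_ : Q.IsPrime),
      (∀ i, algebraMap A B (a i) ∈ Q) ∧
      ∃ (lam : Localization.AtPrime Q →+* Henz A K) (q : MvPolynomial ι (Localization.AtPrime Q)),
        (∀ x, lam (algebraMap A (Localization.AtPrime Q) x) = algebraMap A (Henz A K) x) ∧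
        MvPolynomial.map lam q = p ∧
        MvPolynomial.C (algebraMap A (Localization.AtPrime Q) (∏ i, a i)) ^ j *
            (q ^ 2 - MvPolynomial.C (algebraMap A (Localization.AtPrime Q) (∏ i, a i)) ^ k * q) ∈
          (Ideal.span (Set.range fun i => (MvPolynomial.X i : MvPolynomial ι A) ^ n i - MvPolynomial.C (a i))).map
            (MvPolynomial.map (algebraMap A (Localization.AtPrime Q))) := by
  obtain ⟨M, -, -, q, hq⟩ := exists_lift_mvPolynomial (Classical.arbitrary (Nbhd A K)) p
  obtain ⟨M', α, hα, hmem⟩ := exists_mem_map _ M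
    (MvPolynomial.C (algebraMap A M.B (∏ i, a i)) ^ j *
      (q ^ 2 - MvPolynomial.C (algebraMap A M.B (∏ i, a i)) ^ k * q))
    ((map_relation (Henz.ofB M).toRingHom (algebraMap A M.B (∏ i, a i)) (algebraMap A (Henz A K) (∏ i, a i))
      ((Henz.ofB M).commutes _) q p hq j k).symm ▸ hp)
  let Q : Ideal M'.B := RingHom.ker M'.toK.toRingHom
  haveI : Q.IsPrime := RingHom.ker_isPrime _
  have hu : ∀ y : Q.primeCompl, IsUnit (Henz.ofB M' y) := fun y =>
    Henz.isUnit_ofB (isUnit_iff_ne_zero.2 y.2)
  refine ⟨M'.B, inferInstance, inferInstance, inferInstance, Q, inferInstance, fun i => ?_,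
    IsLocalization.lift hu, MvPolynomial.map ((algebraMap M'.B (Localization.AtPrime Q)).comp α.toRingHom) q, fun x => ?_, ?_, ?_⟩
  · show M'.toK (algebraMap A M'.B (a i)) = 0
    rw [AlgHom.commutes]
    exact hK i
  · rw [IsScalarTower.algebraMap_apply A M'.B (Localization.AtPrime Q), IsLocalization.lift_eq]
    exact (Henz.ofB M').commutes x
  · rw [← hq, MvPolynomial.map_map]
    refine congrArg (MvPolynomial.map · q) ?_
    refine RingHom.ext fun z => ?_
    simp only [RingHom.comp_apply, IsLocalization.lift_eq]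
    show Henz.ofB M' (α z) = Henz.ofB M z
    rw [← AlgHom.comp_apply, Henz.ofB_comp α hα]
  · have := Ideal.mem_map_of_mem (MvPolynomial.map (algebraMap M'.B (Localization.AtPrime Q))) hmem
    rw [Ideal.map_map] at this
    have e1 : (MvPolynomial.map (σ := ι) (algebraMap M'.B (Localization.AtPrime Q))).comp (MvPolynomial.map (algebraMap A M'.B)) =
        MvPolynomial.map (algebraMap A (Localization.AtPrime Q)) := by
      ext <;> simp [← IsScalarTower.algebraMap_apply]
    rw [e1] at this
    simpa [MvPolynomial.map_map, ← IsScalarTower.algebraMap_apply] using this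

open Groth.Agent.Hensel in
/-- Connectedness descends from the colimit to the étale neighbourhoods. -/
theorem connected_henz {A : Type u} [CommRing A] [IsLocalRing A] {ι : Type} [Fintype ι] (a : ι → A) (n : ι → ℕ)
    (hn : ∀ i, 1 ≤ n i) (ha : ∀ i, a i ∈ maximalIdeal A)
    (hB : ∀ (B : Type u) [CommRing B] [Algebra A B] [Algebra.Etale A B] (q : Ideal B) [q.IsPrime],
      (∀ i, algebraMap A B (a i) ∈ q) →
      Nontrivial (Localization.Away (algebraMap (Localization.AtPrime q) (SGA1t.kummer (Localization.AtPrime q)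
        (fun i => algebraMap A (Localization.AtPrime q) (a i)) n) (∏ i, algebraMap A (Localization.AtPrime q) (a i)))) ∧
      ∀ x : Localization.Away (algebraMap (Localization.AtPrime q) (SGA1t.kummer (Localization.AtPrime q)
        (fun i => algebraMap A (Localization.AtPrime q) (a i)) n) (∏ i, algebraMap A (Localization.AtPrime q) (a i))),
        IsIdempotentElem x → x = 0 ∨ x = 1)
    (L : Type u) [CommRing L]
    [Algebra (SGA1t.kummer (StrictHenz A) (fun i => algebraMap A (StrictHenz A) (a i)) n) L]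
    [IsLocalization.Away (algebraMap (StrictHenz A) (SGA1t.kummer (StrictHenz A)
      (fun i => algebraMap A (StrictHenz A) (a i)) n) (∏ i, algebraMap A (StrictHenz A) (a i))) L] :
    Nontrivial L ∧ ∀ x : L, IsIdempotentElem x → x = 0 ∨ x = 1 := by
  have hK : ∀ i, algebraMap A (SeparableClosure (ResidueField A)) (a i) = 0 := fun i =>
    (algebraMap_eq_zero_iff_mem _).2 (ha i)
  refine ⟨nontrivial_of_ne (0 : L) 1 fun h01 => ?_, idempotent_of_relations
    (algebraMap (StrictHenz A) (SGA1t.kummer (StrictHenz A)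
      (fun i => algebraMap A (StrictHenz A) (a i)) n) (∏ i, algebraMap A (StrictHenz A) (a i))) fun b j k hrel => ?_⟩
  · haveI : IsLocalization (Submonoid.powers (algebraMap (StrictHenz A) (SGA1t.kummer (StrictHenz A)
      (fun i => algebraMap A (StrictHenz A) (a i)) n) (∏ i, algebraMap A (StrictHenz A) (a i)))) L :=
      ‹IsLocalization.Away _ L›
    obtain ⟨⟨_, m, rfl⟩, hm⟩ := (IsLocalization.map_eq_zero_iff (Submonoid.powers (algebraMap (StrictHenz A)
      (SGA1t.kummer (StrictHenz A) (fun i => algebraMap A (StrictHenz A) (a i)) n)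
        (∏ i, algebraMap A (StrictHenz A) (a i)))) L 1).1 (by rw [map_one, h01])
    have hinj : Function.Injective (algebraMap A (StrictHenz A)) := FaithfulSMul.algebraMap_injective _ _
    obtain ⟨Λ, hΛ⟩ := Conn.exists_retraction (fun i => algebraMap A (StrictHenz A) (a i)) n hn
    have h3 := congrArg Λ (show (algebraMap (StrictHenz A) (SGA1t.kummer (StrictHenz A)
      (fun i => algebraMap A (StrictHenz A) (a i)) n) (∏ i, algebraMap A (StrictHenz A) (a i))) ^ m * 1 = 0 from hm)
    rw [mul_one, map_zero, ← map_pow, Algebra.algebraMap_eq_smul_one, map_smul, hΛ, smul_eq_mul, mul_one,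
      ← map_prod, ← map_pow] at h3
    have h4 : (∏ i, a i) ^ m = 0 := hinj (h3.trans (map_zero _).symm)
    obtain ⟨hne, -⟩ := hB A (maximalIdeal A) (fun i => ha i)
    have hnil : IsNilpotent (algebraMap (Localization.AtPrime (maximalIdeal A)) (SGA1t.kummer (Localization.AtPrime (maximalIdeal A))
        (fun i => algebraMap A (Localization.AtPrime (maximalIdeal A)) (a i)) n) (∏ i, algebraMap A (Localization.AtPrime (maximalIdeal A)) (a i))) :=
      ⟨m, by rw [← map_pow, ← map_prod, ← map_pow, h4, map_zero, map_zero]⟩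
    obtain ⟨k, hk⟩ := hnil
    exact not_subsingleton (Localization.Away (algebraMap (Localization.AtPrime (maximalIdeal A)) (SGA1t.kummer (Localization.AtPrime (maximalIdeal A))
        (fun i => algebraMap A (Localization.AtPrime (maximalIdeal A)) (a i)) n) (∏ i, algebraMap A (Localization.AtPrime (maximalIdeal A)) (a i))))
      (IsLocalization.subsingleton (M := Submonoid.powers (algebraMap (Localization.AtPrime (maximalIdeal A)) (SGA1t.kummer (Localization.AtPrime (maximalIdeal A))
        (fun i => algebraMap A (Localization.AtPrime (maximalIdeal A)) (a i)) n) (∏ i, algebraMap A (Localization.AtPrime (maximalIdeal A)) (a i)))) ⟨k, hk⟩)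
  · obtain ⟨p, rfl⟩ := Ideal.Quotient.mk_surjective b
    obtain ⟨B, _, _, _, Q, _, hQ, lam, q, hlam, hqp, hmem⟩ :=
      exists_stage a n hK p j k ((mk_relation a n p j k).1 hrel)
    letI : Algebra (Localization.AtPrime Q) (StrictHenz A) := lam.toAlgebra
    let Φ := Conn.map (fun i => algebraMap A (StrictHenz A) (a i)) n (fun i => algebraMap A (Localization.AtPrime Q) (a i))
      (fun i => (hlam (a i)).symm)
    have hΦb : Φ (Ideal.Quotient.mk _ q) = Ideal.Quotient.mk _ p := by
      rw [← hqp]
      rfl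
    have h := transfer Φ _ (algebraMap (StrictHenz A) (SGA1t.kummer (StrictHenz A) (fun i => algebraMap A (StrictHenz A) (a i)) n) (∏ i, algebraMap A (StrictHenz A) (a i))) ?_ (hB B Q hQ).2 (Ideal.Quotient.mk _ q) j k ((mk_relation a n q j k).2 hmem)
    · rwa [hΦb] at h
    · rw [Conn.map_algebraMap, map_prod (algebraMap (Localization.AtPrime Q) (StrictHenz A))]
      exact congrArg _ (Finset.prod_congr rfl fun i _ => hlam (a i))

/-- The Kummer algebra only depends on the ring up to isomorphism. -/
def kummerEquiv {T T' : Type u} [CommRing T] [CommRing T'] (e : T ≃+* T') {ι : Type} (a : ι → T) (a' : ι → T')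
    (h : ∀ i, e (a i) = a' i) (n : ι → ℕ) : SGA1t.kummer T a n ≃+* SGA1t.kummer T' a' n :=
  Ideal.quotientEquiv _ _ (MvPolynomial.mapEquiv ι e) (by
    rw [Ideal.map_span, ← Set.range_comp]
    refine congrArg Ideal.span (congrArg Set.range (funext fun i => ?_))
    show _ = MvPolynomial.map (e : T →+* T') _
    simp [h])

theorem kummerEquiv_algebraMap {T T' : Type u} [CommRing T] [CommRing T'] (e : T ≃+* T') {ι : Type} (a : ι → T) (a' : ι → T')
    (h : ∀ i, e (a i) = a' i) (n : ι → ℕ) (x : T) :
    kummerEquiv e a a' h n (algebraMap T (SGA1t.kummer T a n) x) = algebraMap T' (SGA1t.kummer T' a' n) (e x) := by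
  show Ideal.Quotient.mk _ (MvPolynomial.map (e : T →+* T') (MvPolynomial.C x)) = Ideal.Quotient.mk _ (MvPolynomial.C (e x))
  rw [MvPolynomial.map_C]
  rfl

open Groth.Agent.Hensel in
theorem connected_strictHenselization {A : Type u} [CommRing A] [IsLocalRing A] {ι : Type} [Fintype ι] (a : ι → A) (n : ι → ℕ)
    (hn : ∀ i, 1 ≤ n i) (ha : ∀ i, a i ∈ maximalIdeal A)
    (hB : ∀ (B : Type u) [CommRing B] [Algebra A B] [Algebra.Etale A B] (q : Ideal B) [q.IsPrime],
      (∀ i, algebraMap A B (a i) ∈ q) →
      Nontrivial (Localization.Away (algebraMap (Localization.AtPrime q) (SGA1t.kummer (Localization.AtPrime q)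
        (fun i => algebraMap A (Localization.AtPrime q) (a i)) n) (∏ i, algebraMap A (Localization.AtPrime q) (a i)))) ∧
      ∀ x : Localization.Away (algebraMap (Localization.AtPrime q) (SGA1t.kummer (Localization.AtPrime q)
        (fun i => algebraMap A (Localization.AtPrime q) (a i)) n) (∏ i, algebraMap A (Localization.AtPrime q) (a i))),
        IsIdempotentElem x → x = 0 ∨ x = 1)
    (R : Type u) [CommRing R] [IsLocalRing R] [Algebra A R] [IsLocalHom (algebraMap A R)]
    [Hensel.IsStrictHenselization A R] :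
    Nontrivial (Localization.Away (algebraMap R (SGA1t.kummer R (fun i => algebraMap A R (a i)) n) (∏ i, algebraMap A R (a i)))) ∧
      ∀ x : Localization.Away (algebraMap R (SGA1t.kummer R (fun i => algebraMap A R (a i)) n) (∏ i, algebraMap A R (a i))),
        IsIdempotentElem x → x = 0 ∨ x = 1 := by
  obtain ⟨e⟩ := exists_algEquiv_strictHenz A R
  let ε := kummerEquiv e.toRingEquiv (fun i => algebraMap A (StrictHenz A) (a i)) (fun i => algebraMap A R (a i))
    (fun i => e.commutes (a i)) n
  let c := algebraMap R (SGA1t.kummer R (fun i => algebraMap A R (a i)) n) (∏ i, algebraMap A R (a i))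
  let c₀ := algebraMap (StrictHenz A) (SGA1t.kummer (StrictHenz A) (fun i => algebraMap A (StrictHenz A) (a i)) n)
    (∏ i, algebraMap A (StrictHenz A) (a i))
  have hc : ε c₀ = c := by
    rw [kummerEquiv_algebraMap, map_prod]
    exact congrArg _ (Finset.prod_congr rfl fun i _ => e.commutes (a i))
  letI : Algebra (SGA1t.kummer (StrictHenz A) (fun i => algebraMap A (StrictHenz A) (a i)) n) (Localization.Away c) :=
    ((algebraMap _ (Localization.Away c)).comp ε.toRingHom).toAlgebra
  haveI : IsLocalization.Away c₀ (Localization.Away c) := by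
    have := IsLocalization.isLocalization_of_base_ringEquiv (Submonoid.powers c) (Localization.Away c) ε.symm
    rwa [Submonoid.map_powers, show ε.symm c = c₀ from by rw [← hc, RingEquiv.symm_apply_apply]] at this
  exact connected_henz a n hn ha hB (Localization.Away c)

open CategoryTheory AlgebraicGeometry in
theorem connected_stalk {X S : Scheme.{u}} (f : X ⟶ S) {r : ℕ} (φ : Fin r → Γ(X, ⊤))
    (hD : SGA1t.IsRelSNC f φ) (x : X) (hx : Nonempty (SGA1t.vanishingAt φ x))
    (n : SGA1t.vanishingAt φ x → ℕ) (hn1 : ∀ i, 1 ≤ n i)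
    (R : Type u) [CommRing R] [IsLocalRing R] [Algebra (X.presheaf.stalk x) R]
    [IsLocalHom (algebraMap (X.presheaf.stalk x) R)] [Hensel.IsStrictHenselization (X.presheaf.stalk x) R] :
    let a : SGA1t.vanishingAt φ x → R := fun i => algebraMap (X.presheaf.stalk x) R ((X.presheaf.germ ⊤ x trivial).hom (φ i.1))
    Nontrivial (Localization.Away (algebraMap R (SGA1t.kummer R a n) (∏ i, a i))) ∧
      ∀ z : Localization.Away (algebraMap R (SGA1t.kummer R a n) (∏ i, a i)), IsIdempotentElem z → z = 0 ∨ z = 1 := by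
  intro a
  classical
  obtain ⟨W, hxW, d, v, e, he, hv, hev⟩ := hD x hx
  obtain ⟨S0, hS, hxS, -⟩ := exists_isAffineOpen_mem_and_subset (x := f x) (U := ⊤) trivial
  obtain ⟨W0, hW0, hxW0, hle⟩ := exists_isAffineOpen_mem_and_subset (x := x) (U := W ⊓ f ⁻¹ᵁ S0) ⟨hxW, hxS⟩
  have hWW : W0 ≤ W := hle.trans inf_le_left
  have hWS : W0 ≤ f ⁻¹ᵁ S0 := hle.trans inf_le_right
  let R' := Γ(S, S0)
  let B := Γ(X, W0)
  let σ := ULift.{u} (Fin d)
  have hjr : Set.range hW0.fromSpec.base ⊆ Set.range W.ι.base := by
    rw [Scheme.Opens.range_ι, hW0.range_fromSpec]; exact hWW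
  let j : Spec B ⟶ W := IsOpenImmersion.lift W.ι hW0.fromSpec hjr
  have hj : j ≫ W.ι = hW0.fromSpec := IsOpenImmersion.lift_fac _ _ _
  haveI : IsOpenImmersion (j ≫ W.ι) := by rw [hj]; infer_instance
  haveI : IsOpenImmersion j := IsOpenImmersion.of_comp j W.ι
  let w : σ → B := fun s => (Scheme.ΓSpecIso B).hom (j.appTop (v s))
  let θ : CommRingCat.of (MvPolynomial σ R') ⟶ B :=
    CommRingCat.ofHom (MvPolynomial.eval₂Hom (f.appLE S0 W0 hWS).hom w)
  have hθet : θ.hom.Etale := Groth.Agent.H9Kummer.Smooth.chart_etale f hS hW0 hWS W v j hj hv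
  let germ : B →+* X.presheaf.stalk x := (X.presheaf.germ W0 x hxW0).hom
  letI : Algebra (MvPolynomial σ R') B := θ.hom.toAlgebra
  letI : Algebra B (X.presheaf.stalk x) := germ.toAlgebra
  letI : Algebra R' B := (f.appLE S0 W0 hWS).hom.toAlgebra
  haveI : IsScalarTower R' (MvPolynomial σ R') B := .of_algebraMap_eq fun r =>
    (MvPolynomial.eval₂Hom_C (f.appLE S0 W0 hWS).hom w r).symm
  haveI : Algebra.Etale (MvPolynomial σ R') B := hθet
  haveI : IsLocalization.AtPrime (X.presheaf.stalk x) (hW0.primeIdealOf ⟨x, hxW0⟩).asIdeal :=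
    hW0.isLocalization_stalk ⟨x, hxW0⟩
  let a₀ : SGA1t.vanishingAt φ x → B := fun i => X.presheaf.map (homOfLE (le_top : W0 ≤ ⊤)).op (φ i.1)
  have ha₀ : ∀ i, a₀ i = algebraMap (MvPolynomial σ R') B (MvPolynomial.X (ULift.up (e i))) := fun i => by
    have h1 : w (ULift.up (e i)) = a₀ i := by
      show (Scheme.ΓSpecIso B).hom (j.appTop (v (ULift.up (e i)))) = _
      rw [hev]
      exact Groth.Agent.H9Kummer.Smooth.res_eq hW0 W j hj (φ i.1)
    rw [← h1]
    exact (MvPolynomial.eval₂Hom_X' (f.appLE S0 W0 hWS).hom w _).symm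
  have hga : ∀ i, (X.presheaf.germ ⊤ x trivial).hom (φ i.1) = algebraMap B (X.presheaf.stalk x) (a₀ i) := fun i =>
    (X.presheaf.germ_res_apply (homOfLE le_top) x hxW0 (φ i.1)).symm
  let A := X.presheaf.stalk x
  let aS : SGA1t.vanishingAt φ x → A := fun i => (X.presheaf.germ ⊤ x trivial).hom (φ i.1)
  have hm : ∀ i, aS i ∈ maximalIdeal A := fun i =>
    (IsLocalRing.mem_maximalIdeal _).2 fun hu => i.2 ((X.mem_basicOpen'' (φ i.1) x).2 ⟨trivial, hu⟩)
  refine connected_strictHenselization aS n hn1 hm ?_ R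
  intro V _ _ _ q _ hq
  obtain ⟨B₀, _, _, _, hfp, hcomp, hloc⟩ := exists_model (A₀ := B) (A := A) (hW0.primeIdealOf ⟨x, hxW0⟩).asIdeal.primeCompl V
  haveI := hfp
  letI algRB₀ : Algebra R' B₀ := ((algebraMap B B₀).comp (algebraMap R' B)).toAlgebra
  haveI : IsScalarTower R' B B₀ := .of_algebraMap_eq fun _ => rfl
  letI : Algebra (MvPolynomial σ R') B₀ := ((algebraMap B B₀).comp (algebraMap (MvPolynomial σ R') B)).toAlgebra
  haveI : IsScalarTower R' (MvPolynomial σ R') B₀ := .of_algebraMap_eq fun t => by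
    show algebraMap B B₀ (algebraMap R' B t) = algebraMap B B₀ (algebraMap (MvPolynomial σ R') B (algebraMap R' _ t))
    exact congrArg _ (IsScalarTower.algebraMap_apply R' (MvPolynomial σ R') B t)
  haveI : Algebra.FinitePresentation R' B := Algebra.FinitePresentation.trans R' (MvPolynomial σ R') B
  haveI : Algebra.FinitePresentation R' B₀ := Algebra.FinitePresentation.trans R' B B₀
  let P₀ : Ideal B₀ := q.comap (algebraMap B₀ V)
  haveI := hloc
  haveI : IsLocalization.AtPrime (Localization.AtPrime q) P₀ :=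
    IsLocalization.isLocalization_isLocalization_atPrime_isLocalization
      ((hW0.primeIdealOf ⟨x, hxW0⟩).asIdeal.primeCompl.map (algebraMap B B₀)) _ q
  have hcq : ∀ b : B, algebraMap B₀ (Localization.AtPrime q) (algebraMap B B₀ b) = algebraMap A (Localization.AtPrime q) (algebraMap B A b) := fun b => by
    rw [IsScalarTower.algebraMap_apply B₀ V (Localization.AtPrime q), hcomp, ← IsScalarTower.algebraMap_apply A V]
  refine Conn.connected_away_of_formallyEtale (fun i => algebraMap A (Localization.AtPrime q) (aS i)) n (R := R') (σ := σ) P₀ ?_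
    (fun i => ULift.up (e i)) (ULift.up_injective.comp he) (fun i => algebraMap B B₀ (a₀ i)) (fun i => ?_) (fun i => ?_)
    (fun i => ?_) hn1 _
  · letI : Algebra (MvPolynomial σ R') A := ((algebraMap B A).comp (algebraMap (MvPolynomial σ R') B)).toAlgebra
    haveI : IsScalarTower (MvPolynomial σ R') B A := .of_algebraMap_eq fun _ => rfl
    haveI : Algebra.FormallyEtale B A := Algebra.FormallyEtale.of_isLocalization (hW0.primeIdealOf ⟨x, hxW0⟩).asIdeal.primeCompl
    haveI : Algebra.FormallyEtale (MvPolynomial σ R') A := Algebra.FormallyEtale.comp (MvPolynomial σ R') B A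
    haveI : Algebra.FormallyEtale V (Localization.AtPrime q) := Algebra.FormallyEtale.of_isLocalization q.primeCompl
    haveI : Algebra.FormallyEtale A (Localization.AtPrime q) := Algebra.FormallyEtale.comp A V _
    letI alg1 : Algebra (MvPolynomial σ R') (Localization.AtPrime q) :=
      ((algebraMap B₀ (Localization.AtPrime q)).comp (algebraMap (MvPolynomial σ R') B₀)).toAlgebra
    haveI : IsScalarTower (MvPolynomial σ R') A (Localization.AtPrime q) := .of_algebraMap_eq fun t => hcq _
    exact Algebra.FormallyEtale.comp (MvPolynomial σ R') A (Localization.AtPrime q)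
  · rw [ha₀]
    rfl
  · show algebraMap B₀ V (algebraMap B B₀ (a₀ i)) ∈ q
    rw [hcomp, ← hga]
    exact hq i
  · rw [hcq, ← hga]

end Groth.Agent.H9Kummer.StrictConn
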