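import Groth.Agent.H9Kummer.Basic
import Groth.Prelude.Def_EtRam

/-! Tameness of Kummer algebras along the parameters. -/

universe u
set_option linter.style.haveILetI false
open IsLocalRing
set_option maxHeartbeats 1000000

namespace Groth.Agent.H9Kummer

variable {A : Type u} [CommRing A]

/-- Parameters with independent classes in the cotangent space generate distinct primes. -/
theorem notMem_span_of_independent [IsLocalRing A] {r : ℕ} {f : Fin r → A} (hm : ∀ i, f i ∈ maximalIdeal A)
    (hf : LinearIndependent (ResidueField A) (fun i => (maximalIdeal A).toCotangent ⟨f i, hm i⟩))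
    {i j : Fin r} (hij : j ≠ i) : f j ∉ Ideal.span {f i} := by
  intro h
  obtain ⟨a, ha⟩ := Ideal.mem_span_singleton'.1 h
  have e : (maximalIdeal A).toCotangent ⟨f j, hm j⟩ = residue A a • (maximalIdeal A).toCotangent ⟨f i, hm i⟩ := by
    have : (⟨f j, hm j⟩ : maximalIdeal A) = a • ⟨f i, hm i⟩ := Subtype.ext ha.symm
    rw [this, map_smul]
    rfl
  have h1 := linearIndependent_iff'.1 hf {i, j}
    (Function.update (fun _ => -residue A a) j 1) (by
      rw [Finset.sum_pair hij.symm, Function.update_of_ne hij.symm, Function.update_self, one_smul, e, neg_smul,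
        neg_add_cancel]) j (by simp)
  simp at h1

theorem param_ne_zero [IsLocalRing A] {r : ℕ} {f : Fin r → A} (hm : ∀ i, f i ∈ maximalIdeal A)
    (hf : LinearIndependent (ResidueField A) (fun i => (maximalIdeal A).toCotangent ⟨f i, hm i⟩))
    (i : Fin r) : f i ≠ 0 := by
  intro h
  refine hf.ne_zero i ?_
  have : (⟨f i, hm i⟩ : maximalIdeal A) = 0 := Subtype.ext h
  change (maximalIdeal A).toCotangent ⟨f i, hm i⟩ = 0
  rw [this, map_zero]

theorem tame [IsDomain A] [IsNoetherianRing A] {r : ℕ} (f : Fin r → A) (n : Fin r → ℕ) (hn : ∀ j, 1 ≤ n j)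
    (hu : ∀ j, IsUnit (n j : A)) (i : Fin r) [hP : (Ideal.span {f i}).IsPrime]
    (hne : ∀ j, j ≠ i → f j ∉ Ideal.span {f i}) (hfi : f i ≠ 0)
    {B : Type u} [CommRing B] [Algebra A B] [Algebra.FiniteType A B] [IsNoetherianRing B]
    (T : Fin r → B) (T_pow : ∀ j, T j ^ n j = algebraMap A B (f j))
    (adjoin_T : Algebra.adjoin A (Set.range T) = ⊤)
    {L : Type u} [Field L] (ι : B →+* L)
    (hgen : ∀ x : L, ∃ b c, ι c ≠ 0 ∧ x = ι b / ι c)
    (hι : ∀ a : A, a ≠ 0 → ι (algebraMap A B a) ≠ 0)
    (g : Localization.AtPrime (Ideal.span {f i}) →+* L)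
    (hg : g.comp (algebraMap A _) = ι.comp (algebraMap A _)) :
    EtRam.IsTamelyRamified (Localization.AtPrime (Ideal.span {f i})) g := by
  classical
  let AP := Localization.AtPrime (Ideal.span {f i})
  intro V h
  letI algV : Algebra AP V := (RingHom.codRestrict g V h.1).toAlgebra
  intro hloc
  have hga : ∀ a : A, g (algebraMap A AP a) = ι (algebraMap A B a) := RingHom.congr_fun hg
  -- the Kummer generators lie in `V`
  have htV : ∀ j, ι (T j) ∈ V := fun j => by
    obtain h' | h' := V.mem_or_inv_mem (ι (T j))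
    · exact h'
    · by_cases h0 : ι (T j) = 0
      · rw [h0]; exact V.zero_mem
      have e : ι (T j) = ι (T j) ^ n j * (ι (T j))⁻¹ ^ (n j - 1) := by
        obtain ⟨m, hm⟩ := Nat.exists_eq_add_of_le' (hn j)
        rw [hm, add_tsub_cancel_right, inv_pow, pow_succ', mul_inv_cancel_right₀ (pow_ne_zero _ h0)]
      rw [e, ← map_pow, T_pow, ← hga]
      exact mul_mem (h.1 _) (pow_mem h' _)
  have hBV : ∀ b : B, ι b ∈ V := by
    intro b
    have hb : b ∈ Algebra.adjoin A (Set.range T) := adjoin_T ▸ Algebra.mem_top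
    induction hb using Algebra.adjoin_induction with
    | mem x hx => obtain ⟨j, rfl⟩ := hx; exact htV j
    | algebraMap a => rw [← hga]; exact h.1 _
    | add x y _ _ hx hy => rw [map_add]; exact add_mem hx hy
    | mul x y _ _ hx hy => rw [map_mul]; exact mul_mem hx hy
  let ρ : B →+* V := ι.codRestrict V hBV
  have hρa : ∀ a : A, ρ (algebraMap A B a) = algebraMap AP V (algebraMap A AP a) := fun a =>
    Subtype.ext (hga a).symm
  haveI : (maximalIdeal V).IsPrime := (maximalIdeal.isMaximal V).isPrime
  let Q : Ideal B := (maximalIdeal V).comap ρ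
  have hQu : ∀ s : Q.primeCompl, IsUnit (ρ s) := fun s =>
    not_not.1 fun hs => s.2 ((mem_maximalIdeal _).2 hs)
  let lam : (Localization.AtPrime Q) →+* V := IsLocalization.lift hQu
  have hlam : ∀ b, lam (algebraMap B (Localization.AtPrime Q) b) = ρ b := fun b => IsLocalization.lift_eq _ b
  haveI : IsLocalHom lam := ⟨fun y hy => by
    obtain ⟨b, s, rfl⟩ := IsLocalization.exists_mk'_eq Q.primeCompl y
    rw [IsLocalization.lift_mk'] at hy
    have hb : IsUnit (ρ b) := by simpa using hy
    exact IsLocalization.AtPrime.isUnit_mk'_iff (Localization.AtPrime Q) Q b s |>.2 fun hbQ => (mem_maximalIdeal _).1 hbQ hb⟩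
  let τ : (Localization.AtPrime Q) := algebraMap B (Localization.AtPrime Q) (T i)
  have hτQ : T i ∈ Q := by
    refine Ideal.IsPrime.mem_of_pow_mem inferInstance (n i) ?_
    rw [T_pow, Ideal.mem_comap, hρa]
    exact map_nonunit _ _ (by
      rw [IsLocalization.AtPrime.to_map_mem_maximal_iff AP (Ideal.span {f i})]
      exact Ideal.mem_span_singleton_self _)
  have hτm : τ ∈ maximalIdeal (Localization.AtPrime Q) := (IsLocalization.AtPrime.to_map_mem_maximal_iff (Localization.AtPrime Q) Q _).2 hτQ
  -- `(Localization.AtPrime Q)/(τ)` is a separable field extension of the residue field of `AP`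
  let R := (Localization.AtPrime Q) ⧸ Ideal.span {τ}
  haveI : Nontrivial R := Ideal.Quotient.nontrivial_iff.2 fun h' => (maximalIdeal.isMaximal (Localization.AtPrime Q)).ne_top
    (top_le_iff.1 (h'.symm.le.trans ((Ideal.span_singleton_le_iff_mem _).2 hτm)))
  haveI : IsLocalRing R := IsLocalRing.of_surjective' (Ideal.Quotient.mk _) Ideal.Quotient.mk_surjective
  have hAu : ∀ a : (Ideal.span {f i}).primeCompl, IsUnit (algebraMap A (Localization.AtPrime Q) a) := fun a => by
    rw [IsScalarTower.algebraMap_apply A B (Localization.AtPrime Q)]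
    refine IsLocalization.map_units (Localization.AtPrime Q) (⟨algebraMap A B a, fun hQ => ?_⟩ : Q.primeCompl)
    have hu' : IsUnit (ρ (algebraMap A B a)) := by
      rw [hρa]; exact (IsLocalization.map_units AP a).map _
    exact (mem_maximalIdeal _).1 hQ hu'
  let μ : AP →+* R := (Ideal.Quotient.mk _).comp (IsLocalization.lift hAu)
  have hμ : ∀ a : A, μ (algebraMap A AP a) = algebraMap A R a := fun a => by
    show Ideal.Quotient.mk _ (IsLocalization.lift hAu (algebraMap A AP a)) = _
    rw [IsLocalization.lift_eq]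
    rfl
  have hμm : ∀ x ∈ maximalIdeal AP, μ x = 0 := by
    intro x hx
    rw [← Localization.AtPrime.map_eq_maximalIdeal, Ideal.map_span, Set.image_singleton] at hx
    obtain ⟨y, rfl⟩ := Ideal.mem_span_singleton'.1 hx
    have h0 : algebraMap A R (f i) = 0 := by
      rw [IsScalarTower.algebraMap_apply A (Localization.AtPrime Q) R, IsScalarTower.algebraMap_apply A B (Localization.AtPrime Q), ← T_pow i, map_pow,
        Ideal.Quotient.algebraMap_eq, map_pow, Ideal.Quotient.eq_zero_iff_mem.2 (Ideal.mem_span_singleton_self τ),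
        zero_pow (Nat.one_le_iff_ne_zero.1 (hn i))]
    rw [map_mul, hμ, h0, mul_zero]
  let κ := ResidueField AP
  letI : Algebra κ R := (Ideal.Quotient.lift _ μ hμm).toAlgebra
  haveI : IsScalarTower A κ R := IsScalarTower.of_algebraMap_eq fun a => (hμ a).symm
  haveI : Algebra.EssFiniteType B (Localization.AtPrime Q) := Algebra.EssFiniteType.of_isLocalization (Localization.AtPrime Q) Q.primeCompl
  haveI : Algebra.EssFiniteType A (Localization.AtPrime Q) := Algebra.EssFiniteType.comp A B (Localization.AtPrime Q)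
  haveI : Algebra.EssFiniteType A R := Algebra.EssFiniteType.comp A (Localization.AtPrime Q) R
  haveI : Algebra.EssFiniteType κ R := Algebra.EssFiniteType.of_comp A κ R
  haveI : Algebra.FormallyUnramified A R := by
    rw [Algebra.FormallyUnramified.iff_comp_injective]
    intro C _ _ I hI g₁ g₂ h12
    have hτ0 : Ideal.Quotient.mk (Ideal.span {τ}) τ = 0 :=
      Ideal.Quotient.eq_zero_iff_mem.2 (Ideal.mem_span_singleton_self τ)
    have hj : ∀ j, g₁ (Ideal.Quotient.mk _ (algebraMap B (Localization.AtPrime Q) (T j))) =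
        g₂ (Ideal.Quotient.mk _ (algebraMap B (Localization.AtPrime Q) (T j))) := by
      intro j
      by_cases hji : j = i
      · subst hji
        rw [show Ideal.Quotient.mk (Ideal.span {τ}) (algebraMap B (Localization.AtPrime Q) (T j)) = 0 from hτ0, map_zero, map_zero]
      set x := g₁ (Ideal.Quotient.mk _ (algebraMap B (Localization.AtPrime Q) (T j))) with hx
      set y := g₂ (Ideal.Quotient.mk _ (algebraMap B (Localization.AtPrime Q) (T j))) with hy
      have hpow : Ideal.Quotient.mk (Ideal.span {τ}) (algebraMap B (Localization.AtPrime Q) (T j)) ^ n j = algebraMap A R (f j) := by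
        rw [← map_pow, ← map_pow, T_pow]
        rfl
      have hxn : x ^ n j = algebraMap A C (f j) := by rw [hx, ← map_pow, hpow, AlgHom.commutes]
      have hyn : y ^ n j = algebraMap A C (f j) := by rw [hy, ← map_pow, hpow, AlgHom.commutes]
      have hxy : x - y ∈ I := Ideal.Quotient.eq.1 (AlgHom.congr_fun h12 _)
      have hyu : IsUnit y := by
        have : IsUnit (algebraMap A C (f j)) := by
          rw [← AlgHom.commutes g₁, IsScalarTower.algebraMap_apply A (Localization.AtPrime Q) R]
          exact ((hAu ⟨f j, hne j hji⟩).map (algebraMap (Localization.AtPrime Q) R)).map g₁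
        exact (isUnit_pow_iff (Nat.one_le_iff_ne_zero.1 (hn j))).1 (hyn ▸ this)
      obtain ⟨c, hc⟩ : ∃ c, (y + (x - y)) ^ n j = y ^ n j + (n j : C) * y ^ (n j - 1) * (x - y) + c * (x - y) ^ 2 := by
        obtain ⟨c, hc⟩ := Polynomial.binomExpansion ((Polynomial.X : Polynomial C) ^ n j) y (x - y)
        exact ⟨c, by simpa [Polynomial.derivative_X_pow] using hc⟩
      have h2 : (x - y) ^ 2 = 0 := by
        have := Ideal.pow_mem_pow hxy 2
        rwa [hI, Ideal.mem_bot] at this
      rw [add_sub_cancel, hxn, hyn, h2, mul_zero, add_zero, left_eq_add] at hc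
      have hnu : IsUnit ((n j : C) * y ^ (n j - 1)) := by
        refine IsUnit.mul ?_ (hyu.pow _)
        simpa using (hu j).map (algebraMap A C)
      exact sub_eq_zero.1 ((hnu.mul_right_eq_zero).1 hc)
    refine Ideal.Quotient.algHom_ext A (IsLocalization.algHom_ext Q.primeCompl ?_)
    exact AlgHom.ext_of_adjoin_eq_top adjoin_T (by rintro _ ⟨j, rfl⟩; exact hj j)
  haveI : Algebra.FormallyUnramified κ R := Algebra.FormallyUnramified.of_restrictScalars A κ R
  haveI : IsReduced R := Algebra.FormallyUnramified.isReduced_of_field κ R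
  haveI : Module.Finite κ R := Algebra.FormallyUnramified.finite_of_free κ R
  haveI : IsArtinianRing R := IsArtinianRing.of_finite κ R
  have hfield : IsField R := IsArtinianRing.isField_of_isReduced_of_isLocalRing R
  letI : Field R := hfield.toField
  have hmax : maximalIdeal (Localization.AtPrime Q) = Ideal.span {τ} :=
    (IsLocalRing.eq_maximalIdeal (Ideal.Quotient.maximal_of_isField _ (IsField.mk ⟨0, 1, zero_ne_one⟩
      mul_comm (fun ha => hfield.mul_inv_cancel ha)))).symm
  -- `V` is the image of `(Localization.AtPrime Q)`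
  let t : V := ρ (T i)
  have htm : t ∈ maximalIdeal V := hτQ
  have ht0 : t ≠ 0 := fun h0 => by
    have : ι (algebraMap A B (f i)) = 0 := by
      rw [← T_pow i, map_pow, show ι (T i) = 0 from congrArg Subtype.val h0,
        zero_pow (Nat.one_le_iff_ne_zero.1 (hn i))]
    exact hι _ hfi this
  have hlτ : lam τ = t := hlam _
  haveI : IsNoetherianRing (Localization.AtPrime Q) := IsLocalization.isNoetherianRing Q.primeCompl (Localization.AtPrime Q) inferInstance
  have hfac : ∀ y : (Localization.AtPrime Q), lam y ≠ 0 → ∃ (m : ℕ) (u : (Localization.AtPrime Q)), IsUnit u ∧ lam y = lam u * t ^ m := by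
    intro y hy
    have hy0 : y ≠ 0 := fun h0 => hy (by rw [h0, map_zero])
    have hex : ∃ m, y ∉ Ideal.span {τ} ^ m := by
      by_contra hall
      push Not at hall
      have : y ∈ (⨅ m : ℕ, Ideal.span {τ} ^ m) := Submodule.mem_iInf _ |>.2 hall
      rw [Ideal.iInf_pow_eq_bot_of_isLocalRing _ (hmax ▸ (maximalIdeal.isMaximal (Localization.AtPrime Q)).ne_top)] at this
      exact hy0 ((Submodule.mem_bot _).1 this)
    have hspec := Nat.find_spec hex
    have hm0 : Nat.find hex ≠ 0 := fun h0 => hspec (by simp [h0])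
    obtain ⟨m, hm⟩ := Nat.exists_eq_succ_of_ne_zero hm0
    have hmem : y ∈ Ideal.span {τ} ^ m := not_not.1 (Nat.find_min hex (by omega))
    rw [Ideal.span_singleton_pow, Ideal.mem_span_singleton'] at hmem
    obtain ⟨u, hu'⟩ := hmem
    refine ⟨m, u, not_not.1 fun hnu => hspec ?_, by rw [← hu', map_mul, map_pow, hlτ]⟩
    have : u ∈ Ideal.span {τ} := hmax ▸ (mem_maximalIdeal u).2 hnu
    rw [hm, ← hu', pow_succ', Ideal.span_singleton_pow]
    exact Ideal.mul_mem_mul this (Ideal.mem_span_singleton_self _)
  have hsurj : Function.Surjective lam := by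
    intro v
    by_cases hv : v = 0
    · exact ⟨0, by rw [hv, map_zero]⟩
    obtain ⟨b, c, hc, hx⟩ := hgen v
    have hbc : v * ρ c = ρ b := Subtype.ext (show (v : L) * ι c = ι b by rw [hx, div_mul_cancel₀ _ hc])
    have hc' : lam (algebraMap B (Localization.AtPrime Q) c) ≠ 0 := fun h0 => hc (congrArg Subtype.val (hlam c ▸ h0))
    have hb' : lam (algebraMap B (Localization.AtPrime Q) b) ≠ 0 := by
      rw [hlam, ← hbc]; exact mul_ne_zero hv (hlam c ▸ hc')
    obtain ⟨m, u, hu1, he1⟩ := hfac _ hb'
    obtain ⟨m', u', hu2, he2⟩ := hfac _ hc'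
    rw [hlam] at he1 he2
    rw [he1, he2] at hbc
    obtain ⟨w, rfl⟩ := hu2
    rcases le_or_gt m' m with hle | hlt
    · refine ⟨u * ↑w⁻¹ * τ ^ (m - m'), ?_⟩
      have : v * lam w = lam u * t ^ (m - m') := by
        apply mul_right_cancel₀ (pow_ne_zero m' ht0)
        rw [mul_assoc, hbc, mul_assoc, ← pow_add, Nat.sub_add_cancel hle]
      rw [map_mul, map_mul, map_pow, hlτ, mul_right_comm, ← this, mul_assoc, ← map_mul, Units.mul_inv, map_one, mul_one]
    · exfalso
      have : v * lam w * t ^ (m' - m) = lam u := by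
        apply mul_right_cancel₀ (pow_ne_zero m ht0)
        rw [mul_assoc, ← pow_add, Nat.sub_add_cancel hlt.le, mul_assoc, hbc]
      have hmem : lam u ∈ maximalIdeal V := this ▸ Ideal.mul_mem_left _ _
        (Ideal.pow_mem_of_mem _ htm _ (by omega))
      exact (mem_maximalIdeal _).1 hmem (hu1.map lam)
  have hVm : maximalIdeal V = Ideal.span {t} := by
    refine le_antisymm (fun v hv => ?_) ((Ideal.span_singleton_le_iff_mem _).2 htm)
    obtain ⟨y, rfl⟩ := hsurj v
    have : y ∈ maximalIdeal (Localization.AtPrime Q) := (mem_maximalIdeal _).2 fun hy => (mem_maximalIdeal _).1 hv (hy.map lam)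
    rw [hmax, Ideal.mem_span_singleton'] at this
    obtain ⟨z, rfl⟩ := this
    rw [map_mul, hlτ]
    exact Ideal.mul_mem_left _ _ (Ideal.mem_span_singleton_self _)
  refine ⟨?_, fun p hp hc hd => ?_⟩
  · haveI : Algebra.IsSeparable κ R := Algebra.FormallyUnramified.isSeparable κ R
    let ν : R →+* ResidueField V := Ideal.Quotient.lift _ ((residue V).comp lam) (fun y hy => by
      obtain ⟨z, rfl⟩ := Ideal.mem_span_singleton'.1 hy
      rw [RingHom.comp_apply, map_mul, hlτ, map_mul, (residue_eq_zero_iff t).2 htm, mul_zero])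
    have hν : ν.comp (algebraMap κ R) = algebraMap κ (ResidueField V) := by
      refine Ideal.Quotient.ringHom_ext (IsLocalization.ringHom_ext (Ideal.span {f i}).primeCompl ?_)
      refine RingHom.ext fun a => ?_
      show ν (μ (algebraMap A AP a)) = residue V (algebraMap AP V (algebraMap A AP a))
      rw [hμ, ← hρa, ← hlam]
      rfl
    let e : R ≃ₐ[κ] ResidueField V :=
      AlgEquiv.ofBijective { ν with commutes' := RingHom.congr_fun hν } ⟨ν.injective, fun z => by
        obtain ⟨v, rfl⟩ := residue_surjective z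
        obtain ⟨y, rfl⟩ := hsurj v
        exact ⟨Ideal.Quotient.mk _ y, rfl⟩⟩
    exact AlgEquiv.Algebra.isSeparable e
  · have hmap : (maximalIdeal AP).map (algebraMap AP V) = Ideal.span {t ^ n i} := by
      rw [← Localization.AtPrime.map_eq_maximalIdeal, Ideal.map_span, Ideal.map_span, Set.image_singleton,
        Set.image_singleton, ← hρa, ← T_pow, map_pow]
    have he : Ideal.ramificationIdx' (maximalIdeal AP) (maximalIdeal V) = n i := by
      refine Ideal.ramificationIdx'_spec ?_ ?_
      · rw [hmap, hVm, Ideal.span_singleton_pow]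
      · rw [hmap, hVm, Ideal.span_singleton_pow, Ideal.span_singleton_le_span_singleton]
        rintro ⟨z, hz⟩
        refine (mem_maximalIdeal _).1 htm (IsUnit.of_mul_eq_one z ?_)
        apply mul_left_cancel₀ (pow_ne_zero (n i) ht0)
        rw [mul_one, ← mul_assoc, ← pow_succ, ← hz]
    rw [he] at hd
    have h1 : IsUnit ((n i : ℕ) : ResidueField AP) := by
      simpa using (hu i).map ((residue AP).comp (algebraMap A AP))
    exact h1.ne_zero ((CharP.cast_eq_zero_iff (ResidueField AP) p (n i)).2 hd)

end Groth.Agent.H9Kummer
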